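import Cfsg.Agent.Lib.Recog.Walter.Sections.JRLocal
import Cfsg.Agent.Lib.Recog.Walter.Three.Setting
import Cfsg.Agent.Lib.TwoFusion.AbelianPSL.Main

/-!
Owner: helper8. Walter, sections: groups of Janko–Ree type.

* `jr_oddCore`, `jr_eq_bot`: centralisers and odd subgroups normalised by them.
* `jr_eq_one_of_fixes`: an odd automorphism fixing `C(t)` is trivial.
* `jr_setting`, `jr_isConj`: `|S| = 8`, one class of involutions.
* `jr_generated`: `C(B)` and `N(S)` generate when no component of a centraliser has order sixty.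
-/

set_option autoImplicit false
set_option linter.style.haveILetI false
set_option linter.unusedSectionVars false

namespace CfsgLib.Walter.Sections

open Subgroup
open CfsgLib.AbelianPSL (PSLData)
open CfsgLib.AbelianSolvCent (AbSylow)
open CfsgLib.Signalizer (involution_sq involution_ne_one involution_inv orderOf_eq_two_of orderOf_conj)

universe u

variable {K : Type u} [Group K] [Finite K]

theorem jr_oddCore (h : IsJRType K) {t : K} (ht : orderOf t = 2) :
    Cfsg.oddCore ↥(centralizer ({t} : Set K)) = ⊥ := by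
  obtain ⟨E, N, L⟩ := exists_loc_of_jr h ht
  exact L.oddCore_eq_bot

/-- An involution commuting with `u` is `v'` or `u v'` with `v'` in `N_u`. -/
theorem Loc.exists_projection {u : K} {E N : Subgroup K} (L : Loc u E N) (hA : AbSylow K) {x : K}
    (hx : x * x = 1) (hxu : x * u = u * x) :
    ∃ v ∈ N, v * v = 1 ∧ (x = v ∨ x = u * v) := by
  obtain ⟨e, he, hxe⟩ := L.form x (mem_centralizer_singleton_iff.2 hxu)
  have he2 : e * e = 1 := by
    rcases hxe with rfl | rfl
    · exact hx
    · calc e * e = u * u * (e * e) := by rw [involution_sq L.ord, one_mul]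
        _ = u * (u * e) * e := by group
        _ = u * (e * u) * e := by rw [L.comm e he]
        _ = 1 := by rw [← hx]; group
  refine ⟨e, L.mem_N_of_two_power hA he ?_, he2, hxe⟩
  by_cases he1 : e = 1
  · exact ⟨0, by rw [he1, orderOf_one, pow_zero]⟩
  · exact ⟨1, by rw [orderOf_eq_two_of he1 he2, pow_one]⟩

/-- An odd subgroup normalised by `C(t)` is trivial. -/
theorem jr_eq_bot (h : IsJRType K) {t : K} (ht : orderOf t = 2) {D : Subgroup K} (hD : Odd (Nat.card D))
    (hn : centralizer ({t} : Set K) ≤ normalizer (D : Set K)) : D = ⊥ := by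
  set C := centralizer ({t} : Set K)
  have htn : t ∈ normalizer (D : Set K) := hn (mem_centralizer_singleton_iff.2 rfl)
  -- `t` has no fixed points on `D`
  have hfix : ∀ x ∈ D, x * t = t * x → x = 1 := by
    intro x hx hxt
    have hM : (D.subgroupOf C).Normal := ⟨fun y hy c => (mem_normalizer_iff.1 (hn c.2) y).1 hy⟩
    have hle : D.subgroupOf C ≤ Cfsg.oddCore ↥C := CfsgLib.ZStar.le_oddCore hM (by
      have h1 : Nat.card ↥((D.subgroupOf C).map C.subtype) ∣ Nat.card D := card_dvd_of_le (by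
        rw [subgroupOf_map_subtype]; exact inf_le_left)
      rw [card_map_of_injective C.subtype_injective] at h1
      exact hD.of_dvd_nat h1)
    have h1 : (⟨x, mem_centralizer_singleton_iff.2 hxt⟩ : ↥C) ∈ Cfsg.oddCore ↥C := hle hx
    rw [jr_oddCore h ht, mem_bot] at h1
    exact congrArg Subtype.val h1
  have hinv : ∀ x ∈ D, t * x * t⁻¹ = x⁻¹ := fun x hx =>
    CfsgLib.AbelianPSL.inverted_of_fixed_eq_one ht htn hfix hx
  obtain ⟨E, N, L⟩ := exists_loc_of_jr h ht
  obtain ⟨a, b, ha, hb, hne, hab⟩ := L.data.four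
  rw [← orderOf_coe] at ha hb
  have habK : (a : K) * b = b * a := congrArg Subtype.val hab
  have hne' : (a : K) ≠ b := fun e => hne (Subtype.ext e)
  refine le_bot_iff.1 (CfsgLib.Bender.le_of_four_centralizers hD ha hb habK hne'
    (hn (L.N_le_C a.2)) (hn (L.N_le_C b.2)) fun x hx u hu hxu => ?_)
  have huN : u ∈ N ∧ u * u = 1 ∧ u ≠ 1 := by
    rcases hu with rfl | rfl | rfl
    · exact ⟨a.2, involution_sq ha, involution_ne_one ha⟩
    · exact ⟨b.2, involution_sq hb, involution_ne_one hb⟩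
    · refine ⟨mul_mem a.2 b.2, ?_, fun e => hne' ?_⟩
      · calc (a : K) * b * (a * b) = a * (b * a) * b := by group
          _ = a * a * ((b : K) * b) := by rw [← habK]; group
          _ = 1 := by rw [involution_sq ha, involution_sq hb, one_mul]
      · rw [← involution_inv ha]; exact (eq_inv_of_mul_eq_one_right e).symm
  obtain ⟨huN, huu, hu1⟩ := huN
  have hu2 : orderOf u = 2 := orderOf_eq_two_of hu1 huu
  have hut : u * t = t * u := L.comm u (L.le huN)
  have htu : t ≠ u := fun e => L.not_mem (L.le (e ▸ huN))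
  obtain ⟨E', N', L'⟩ := exists_loc_of_jr h hu2
  obtain ⟨v, hv, hvv, htv⟩ := L'.exists_projection h.2.1 (involution_sq ht) hut.symm
  have hconj : ∀ y ∈ E', v * y * v⁻¹ = t * y * t⁻¹ := by
    intro y hy
    rcases htv with rfl | rfl
    · rfl
    · calc v * y * v⁻¹ = u * (v * y * v⁻¹) * u⁻¹ := by
            have hm : v * y * v⁻¹ ∈ E' := mul_mem (mul_mem (L'.le hv) hy) (inv_mem (L'.le hv))
            rw [← L'.comm _ hm, mul_inv_cancel_right]
        _ = u * v * y * (u * v)⁻¹ := by group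
  have hv1 : v ≠ 1 := by
    rintro rfl
    rcases htv with e | e
    · exact involution_ne_one ht e
    · exact htu (by rw [e, mul_one])
  have hxodd : Odd (orderOf x) := hD.of_dvd_nat (D.orderOf_dvd_natCard hx)
  have hxE : x ∈ E' := L'.mem_E_of_odd (mem_centralizer_singleton_iff.2 hxu) hxodd
  have hxN : x ∈ N' := by
    have h1 : v * (x * v⁻¹ * x⁻¹) ∈ N' :=
      mul_mem hv ((mem_normalizer_iff.1 (L'.nrm hxE) v⁻¹).1 (inv_mem hv))
    rw [show v * (x * v⁻¹ * x⁻¹) = v * x * v⁻¹ * x⁻¹ by group, hconj x hxE, hinv x hx] at h1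
    obtain ⟨m, hm⟩ := hxodd
    have h2 : x ^ (2 * m + 1) * ((x⁻¹ * x⁻¹) ^ m) ∈ N' :=
      mul_mem (by rw [← hm, pow_orderOf_eq_one]; exact one_mem _) (pow_mem h1 m)
    rwa [show x⁻¹ * x⁻¹ = (x ^ 2)⁻¹ by rw [pow_two, mul_inv_rev], inv_pow, ← pow_mul, pow_succ',
      mul_inv_cancel_right] at h2
  have hY : D.subgroupOf N' = ⊥ := by
    refine CfsgLib.AbelianPSL.eq_bot_of_inverted L'.data (s := ⟨v, hv⟩)
      (by rw [Subgroup.orderOf_mk]; exact orderOf_eq_two_of hv1 hvv) ?_ ?_ ?_
    · have h1 : Nat.card ↥((D.subgroupOf N').map N'.subtype) ∣ Nat.card D := card_dvd_of_le (by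
        rw [subgroupOf_map_subtype]; exact inf_le_left)
      rw [card_map_of_injective N'.subtype_injective] at h1
      exact hD.of_dvd_nat h1
    · intro y hy
      exact Subtype.ext (show v * (y : K) * v⁻¹ = (y : K)⁻¹ from
        (hconj _ (L'.le y.2)).trans (hinv _ hy))
    · intro c hc
      have hcv : (c : K) * v = v * c := congrArg Subtype.val (mem_centralizer_singleton_iff.1 hc)
      have hct : (c : K) * t = t * c := by
        rcases htv with e | e <;> rw [e]
        · exact hcv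
        · rw [← mul_assoc, L'.comm c (L'.le c.2), mul_assoc, hcv, mul_assoc]
      refine mem_normalizer_iff.2 fun y => ?_
      exact mem_normalizer_iff.1 (hn (mem_centralizer_singleton_iff.2 hct)) (y : K)
  have h1 : (⟨x, hxN⟩ : ↥N') ∈ D.subgroupOf N' := hx
  rw [hY, mem_bot] at h1
  exact mem_bot.2 (congrArg Subtype.val h1)

/-- A fixed involution `u` commuting with `t`: an odd automorphism fixing `C(t)` fixes `C(u)`. -/
theorem fixes_centralizer (h : IsJRType K) {t u : K} (ht : orderOf t = 2) (hu : orderOf u = 2)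
    (hut : u * t = t * u) (α : MulAut K) (hα : Odd (orderOf α))
    (hfix : ∀ c ∈ centralizer ({t} : Set K), α c = c) {c : K} (hc : c ∈ centralizer ({u} : Set K)) :
    α c = c := by
  by_cases htu : t = u
  · exact hfix c (htu ▸ hc)
  obtain ⟨E, N, L⟩ := exists_loc_of_jr h hu
  haveI := L.simple
  obtain ⟨v, hv, hvv, htv⟩ := L.exists_projection h.2.1 (involution_sq ht) hut.symm
  have hv1 : v ≠ 1 := by
    rintro rfl
    rcases htv with e | e
    · exact involution_ne_one ht e
    · exact htu (by rw [e, mul_one])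
  have huf : α u = u := hfix u (mem_centralizer_singleton_iff.2 hut)
  have hαC : ∀ y ∈ centralizer ({u} : Set K), α y ∈ centralizer ({u} : Set K) := fun y hy => by
    rw [mem_centralizer_singleton_iff]
    calc α y * u = α (y * u) := by rw [map_mul, huf]
      _ = u * α y := by rw [mem_centralizer_singleton_iff.1 hy, map_mul, huf]
  -- `α` preserves `N`
  have hmap : N.map α.toMonoidHom = N := by
    set M := N.map α.toMonoidHom with hM
    have hMC : M ≤ centralizer ({u} : Set K) := by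
      rintro _ ⟨y, hy, rfl⟩
      exact hαC y (L.N_le_C hy)
    let j : ↥N →* ↥(normalizer (N : Set K)) :=
      (α.toMonoidHom.comp N.subtype).codRestrict _ fun y => L.C_le_normalizer (hMC ⟨y, y.2, rfl⟩)
    haveI : (N.subgroupOf (normalizer (N : Set K))).Normal :=
      (normal_subgroupOf_iff_le_normalizer le_normalizer).2 le_rfl
    rcases (inferInstance : ((N.subgroupOf (normalizer (N : Set K))).comap j).Normal).eq_bot_or_eq_top with hb | ht'
    · exfalso
      refine L.not_comm_N ⟨⟨fun x y => ?_⟩⟩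
      have hz : ∀ x ∈ N, α x = 1 ∨ α x = u := fun x hx => by
        refine L.mem_of_centralizes (hMC ⟨x, hx, rfl⟩) fun y hy => ?_
        obtain ⟨y', hy'⟩ : ∃ y', α y' = y := α.surjective y
        have h1 : α x * y * (α x)⁻¹ * y⁻¹ ∈ N :=
          mul_mem ((mem_normalizer_iff.1 (L.C_le_normalizer (hMC ⟨x, hx, rfl⟩)) y).1 hy) (inv_mem hy)
        have hy'C : y' ∈ centralizer ({u} : Set K) := by
          rw [mem_centralizer_singleton_iff]
          apply α.injective
          rw [map_mul, map_mul, hy', huf, mem_centralizer_singleton_iff.1 (L.N_le_C hy)]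
        have h2 : x * y' * x⁻¹ * y'⁻¹ ∈ N := by
          rw [show x * y' * x⁻¹ * y'⁻¹ = x * (y' * x⁻¹ * y'⁻¹) by group]
          exact mul_mem hx ((mem_normalizer_iff.1 (L.C_le_normalizer hy'C) x⁻¹).1 (inv_mem hx))
        have h3 : (⟨x * y' * x⁻¹ * y'⁻¹, h2⟩ : ↥N) ∈ (N.subgroupOf (normalizer (N : Set K))).comap j := by
          show α (x * y' * x⁻¹ * y'⁻¹) ∈ N
          rwa [map_mul, map_mul, map_mul, map_inv, map_inv, hy']
        rw [hb, mem_bot] at h3
        have h4 := congrArg (fun z : ↥N => α (z : K)) h3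
        simp only [map_mul, map_inv, hy', Subgroup.coe_one, map_one] at h4
        rw [mul_inv_eq_one, mul_inv_eq_iff_eq_mul] at h4
        exact h4
      refine Subtype.ext (α.injective ?_)
      show α ((x : K) * y) = α ((y : K) * x)
      rw [map_mul, map_mul]
      rcases hz x x.2 with e | e <;> rcases hz y y.2 with e' | e' <;> rw [e, e'] <;> simp
    · have hle : M ≤ N := by
        rintro _ ⟨y, hy, rfl⟩
        exact (ht' ▸ mem_top _ : (⟨y, hy⟩ : ↥N) ∈ (N.subgroupOf (normalizer (N : Set K))).comap j)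
      exact eq_of_le_of_card_ge hle (card_map_of_injective α.injective).ge
  -- `α` fixes `N`
  obtain ⟨β, hβ⟩ : ∃ β : MulAut ↥N, ∀ x, ((β x : ↥N) : K) = α x :=
    ⟨(α.subgroupMap N).trans (MulEquiv.subgroupCongr hmap), fun x => rfl⟩
  have hβpow : ∀ (k : ℕ) (x : ↥N), (((β ^ k) x : ↥N) : K) = (α ^ k) x := by
    intro k
    induction k with
    | zero => simp
    | succ k ih => intro x; rw [pow_succ', pow_succ', MulAut.mul_apply, MulAut.mul_apply, hβ, ih]
  have hβodd : Odd (orderOf β) := by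
    refine hα.of_dvd_nat (orderOf_dvd_of_pow_eq_one (MulEquiv.ext fun x => Subtype.ext ?_))
    rw [hβpow, pow_orderOf_eq_one]
    rfl
  have hβ1 : β = 1 := eq_one_of_fixes L.data (v := ⟨v, hv⟩)
    (by rw [Subgroup.orderOf_mk]; exact orderOf_eq_two_of hv1 hvv) β hβodd fun y hy => Subtype.ext (by
      rw [hβ]
      refine hfix _ (mem_centralizer_singleton_iff.2 ?_)
      have hyv : (y : K) * v = v * y := congrArg Subtype.val (mem_centralizer_singleton_iff.1 hy)
      rcases htv with e | e <;> rw [e]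
      · exact hyv
      · rw [← mul_assoc, L.comm y (L.le y.2), mul_assoc, hyv, mul_assoc])
  have hN : ∀ y ∈ N, α y = y := fun y hy => by rw [← hβ ⟨y, hy⟩, hβ1]; rfl
  -- `α` fixes `C(u)`
  set z := c⁻¹ * α c with hz
  have hzz : z = 1 ∨ z = u := by
    refine L.mem_of_centralizes (mul_mem (inv_mem hc) (hαC c hc)) fun y hy => ?_
    have h1 := hN _ ((mem_normalizer_iff.1 (L.C_le_normalizer hc) y).1 hy)
    rw [map_mul, map_mul, map_inv, hN y hy, mul_inv_eq_iff_eq_mul] at h1
    rw [hz, mul_assoc, h1]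
    group
  have hzf : α z = z := by
    rcases hzz with e | e <;> rw [e]
    · exact map_one α
    · exact huf
  have hpow : ∀ j : ℕ, (α ^ j) c = c * z ^ j := by
    intro j
    induction j with
    | zero => simp
    | succ j ih =>
      rw [pow_succ', MulAut.mul_apply, ih, map_mul, map_pow, hzf, show α c = c * z by rw [hz]; group,
        mul_assoc, ← pow_succ']
  have h1 := hpow (orderOf α)
  rw [pow_orderOf_eq_one, MulAut.one_apply, left_eq_mul] at h1
  have hz1 : z = 1 := by
    refine orderOf_eq_one_iff.1 (Nat.dvd_one.1 ?_)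
    rw [← (Nat.coprime_two_left.2 hα).gcd_eq_one]
    exact Nat.dvd_gcd (orderOf_dvd_of_pow_eq_one (by rw [pow_two]; exact L.sq_of_mem_one_or hzz))
      (orderOf_dvd_of_pow_eq_one h1)
  rw [hz, inv_mul_eq_one] at hz1
  exact hz1.symm

/-- A subgroup containing the centralisers of the involutions of `S` and `N(S)` is the whole group. -/
theorem jr_eq_top (h : IsJRType K) (S : Sylow 2 K) {H : Subgroup K}
    (hN : normalizer ((S : Subgroup K) : Set K) ≤ H)
    (hC : ∀ u ∈ (S : Subgroup K), orderOf u = 2 → centralizer ({u} : Set K) ≤ H) : H = ⊤ := by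
  haveI : Fact (Nat.Prime 2) := ⟨Nat.prime_two⟩
  haveI := h.1
  by_contra hH
  obtain ⟨A, hAc, hA2, hA4⟩ : ∃ A : Subgroup K, IsMulCommutative A ∧ (∀ a ∈ A, a ^ 2 = 1) ∧ 2 ^ 2 < Nat.card A := by
    have hr := h.2.2.1
    unfold Cfsg.PRankLE at hr
    push Not at hr
    exact hr
  have h2 : 2 ∣ Nat.card K := by
    obtain ⟨k, hk⟩ := (show IsPGroup 2 A from fun x => ⟨1, Subtype.ext (by
      rw [SubgroupClass.coe_pow, pow_one, hA2 x x.2]; rfl)⟩).exists_card_eq
    refine dvd_trans ?_ (card_subgroup_dvd_card A)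
    rw [hk] at hA4 ⊢
    exact dvd_pow_self 2 fun e => by rw [e] at hA4; norm_num at hA4
  have hSE := stronglyEmbedded_of_contains S (h.2.1 S) hH h2 hN hC
  have hrank : Cfsg.PRankAtLeast 2 2 K := ⟨A, hAc, hA2, hA4.le⟩
  haveI := CfsgLib.Bender.solvable_of_benderGen CfsgLib.Bender.benderGen hrank (CfsgLib.Bender.spe_of_se hSE)
  obtain ⟨t, htS, ht⟩ := CfsgLib.Signalizer.exists_involution_of_two_group S.2 fun e => by
    have := S.dvd_card_of_dvd_card h2
    rw [e, Subgroup.card_bot] at this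
    omega
  obtain ⟨E, N, L⟩ := exists_loc_of_jr h ht
  haveI := L.simple
  refine L.not_comm_N ⟨⟨fun a b => IsSimpleGroup.comm_iff_isSolvable.mpr ?_ a b⟩⟩
  exact Group.isSolvable_of_isSolvable_injective (f := inclusion (L.N_le_C.trans (hC t htS ht)))
    (inclusion_injective _)

/-- An automorphism of odd order fixing the centraliser of an involution is trivial. -/
theorem jr_eq_one_of_fixes (h : IsJRType K) {t : K} (ht : orderOf t = 2) (α : MulAut K)
    (hα : Odd (orderOf α)) (hfix : ∀ c ∈ centralizer ({t} : Set K), α c = c) : α = 1 := by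
  haveI : Fact (Nat.Prime 2) := ⟨Nat.prime_two⟩
  obtain ⟨S, hS⟩ := (CfsgLib.Signalizer.isPGroup_zpowers_involution ht).exists_le_sylow
  have htS : t ∈ (S : Subgroup K) := hS (mem_zpowers t)
  have hcomm : ∀ u ∈ (S : Subgroup K), u * t = t * u := fun u hu =>
    congrArg Subtype.val ((h.2.1 S).is_comm.comm ⟨u, hu⟩ ⟨t, htS⟩)
  let H : Subgroup K := MonoidHom.eqLocus α.toMonoidHom (MonoidHom.id K)
  suffices hH : H = ⊤ from MulEquiv.ext fun x => (hH ▸ mem_top x : x ∈ H)
  refine jr_eq_top h S (fun n hn => ?_) fun u hu hu2 c hc =>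
    fixes_centralizer h ht hu2 (hcomm u hu) α hα hfix hc
  show α n = n
  obtain ⟨E, N, L⟩ := exists_loc_of_jr h ht
  set c := n⁻¹ * α n with hc
  have hcy : ∀ y ∈ centralizer ({t} : Set K), c * y = y * c := fun y hy => by
    have hu : n * t * n⁻¹ ∈ (S : Subgroup K) := (mem_normalizer_iff.1 hn t).1 htS
    have h1 : α (n * y * n⁻¹) = n * y * n⁻¹ := fixes_centralizer h ht ((orderOf_conj n t).trans ht)
      (hcomm _ hu) α hα hfix (mem_centralizer_singleton_iff.2 (by
        calc n * y * n⁻¹ * (n * t * n⁻¹) = n * (y * t) * n⁻¹ := by group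
          _ = n * (t * y) * n⁻¹ := by rw [mem_centralizer_singleton_iff.1 hy]
          _ = n * t * n⁻¹ * (n * y * n⁻¹) := by group))
    rw [map_mul, map_mul, map_inv, hfix y hy, mul_inv_eq_iff_eq_mul] at h1
    rw [hc, mul_assoc, h1]
    group
  have hcC : c ∈ centralizer ({t} : Set K) :=
    mem_centralizer_singleton_iff.2 (hcy t (mem_centralizer_singleton_iff.2 rfl))
  have hct := L.mem_of_centralizes hcC fun y hy => hcy y (L.N_le_C hy)
  have hcf : α c = c := hfix c hcC
  have hpow : ∀ j : ℕ, (α ^ j) n = n * c ^ j := by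
    intro j
    induction j with
    | zero => simp
    | succ j ih =>
      rw [pow_succ', MulAut.mul_apply, ih, map_mul, map_pow, hcf, show α n = n * c by rw [hc]; group,
        mul_assoc, ← pow_succ']
  have h1 := hpow (orderOf α)
  rw [pow_orderOf_eq_one, MulAut.one_apply, left_eq_mul] at h1
  have hc1 : c = 1 := by
    refine orderOf_eq_one_iff.1 (Nat.dvd_one.1 ?_)
    rw [← (Nat.coprime_two_left.2 hα).gcd_eq_one]
    exact Nat.dvd_gcd (orderOf_dvd_of_pow_eq_one (by rw [pow_two]; exact L.sq_of_mem_one_or hct))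
      (orderOf_dvd_of_pow_eq_one h1)
  rw [hc, inv_mul_eq_one] at hc1
  exact hc1.symm

/-- `S ∩ N_t` has order four and `S` has order eight. -/
theorem jr_card (h : IsJRType K) (S : Sylow 2 K) {t : K} (htS : t ∈ (S : Subgroup K)) {E N : Subgroup K}
    (L : Loc t E N) :
    Nat.card ↥(S : Subgroup K) = 8 ∧ Nat.card ↥((S : Subgroup K) ⊓ N) = 4 ∧
      ∀ s ∈ (S : Subgroup K), ∃ v ∈ (S : Subgroup K) ⊓ N, s = v ∨ s = t * v := by
  haveI : Fact (Nat.Prime 2) := ⟨Nat.prime_two⟩
  have hform : ∀ s ∈ (S : Subgroup K), ∃ v ∈ (S : Subgroup K) ⊓ N, s = v ∨ s = t * v := by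
    intro s hs
    obtain ⟨v, hv, -, hsv⟩ := L.exists_projection h.2.1 (jr_sq h S hs)
      (congrArg Subtype.val ((h.2.1 S).is_comm.comm ⟨s, hs⟩ ⟨t, htS⟩))
    refine ⟨v, ⟨?_, hv⟩, hsv⟩
    rcases hsv with rfl | rfl
    · exact hs
    · have := mul_mem (inv_mem htS) hs
      rwa [inv_mul_cancel_left] at this
  have h4 : Nat.card ↥((S : Subgroup K) ⊓ N) ≤ 4 := by
    obtain ⟨P, hP⟩ := (S.2.comap_of_injective N.subtype N.subtype_injective).exists_le_sylow
    refine le_trans ?_ (card_sylow L.data P).le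
    exact Nat.card_le_card_of_injective
      (fun x : ↥((S : Subgroup K) ⊓ N) =>
        (⟨⟨(x : K), x.2.2⟩, hP (show (⟨(x : K), x.2.2⟩ : ↥N) ∈ _ from x.2.1)⟩ : ↥(P : Subgroup ↥N)))
      fun x y e => Subtype.ext (congrArg (fun z : ↥(P : Subgroup ↥N) => ((z : ↥N) : K)) e)
  have hle : Nat.card ↥(S : Subgroup K) ≤ 2 * Nat.card ↥((S : Subgroup K) ⊓ N) := by
    rw [show 2 * Nat.card ↥((S : Subgroup K) ⊓ N) = Nat.card (Bool × ↥((S : Subgroup K) ⊓ N)) by
      rw [Nat.card_prod]; norm_num]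
    refine Nat.card_le_card_of_surjective
      (fun p : Bool × ↥((S : Subgroup K) ⊓ N) => (⟨(if p.1 then t else 1) * (p.2 : K),
        mul_mem (by rcases p.1 <;> simp [htS]) p.2.2.1⟩ : ↥(S : Subgroup K))) fun s => ?_
    obtain ⟨v, hv, e | e⟩ := hform s s.2
    · exact ⟨(false, ⟨v, hv⟩), Subtype.ext (by simp [e])⟩
    · exact ⟨(true, ⟨v, hv⟩), Subtype.ext (by simp [e])⟩
  obtain ⟨k, hk⟩ := S.2.exists_card_eq
  have hbig : 4 < Nat.card ↥(S : Subgroup K) := by
    obtain ⟨A, -, hA2, hA4⟩ : ∃ A : Subgroup K, IsMulCommutative A ∧ (∀ a ∈ A, a ^ 2 = 1) ∧ 2 ^ 2 < Nat.card A := by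
      have hr := h.2.2.1
      unfold Cfsg.PRankLE at hr
      push Not at hr
      exact hr
    have hAp : IsPGroup 2 A := fun x => ⟨1, Subtype.ext (by rw [SubgroupClass.coe_pow, pow_one, hA2 x x.2]; rfl)⟩
    obtain ⟨P, hP⟩ := hAp.exists_le_sylow
    rw [← Nat.card_congr (P.equiv S).toEquiv]
    calc 4 = 2 ^ 2 := rfl
      _ < Nat.card A := hA4
      _ ≤ _ := card_le_of_le hP
  rw [hk] at hle hbig ⊢
  have hk3 : 3 ≤ k := by
    by_contra hlt
    interval_cases k <;> norm_num at hbig
  have h8 : 2 ^ 3 ≤ 2 ^ k := Nat.pow_le_pow_right two_pos hk3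
  exact ⟨by omega, by omega, hform⟩

/-- The standing hypotheses of the rank three case hold. -/
theorem jr_setting (h : IsJRType K) (S : Sylow 2 K) {t : K} (htS : t ∈ (S : Subgroup K))
    (ht : orderOf t = 2) : Three.Setting S := by
  obtain ⟨E, N, L⟩ := exists_loc_of_jr h ht
  haveI := L.simple
  haveI := h.1
  have hns : ¬ Group.IsSolvable ↥(centralizer ({t} : Set K)) := fun hs =>
    L.not_comm_N ⟨⟨fun a b => IsSimpleGroup.comm_iff_isSolvable.mpr
      (Group.isSolvable_of_isSolvable_injective (f := inclusion L.N_le_C) (inclusion_injective _)) a b⟩⟩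
  refine ⟨h.1, fun hc => hns (Group.isSolvable_of_comm fun a b => Subtype.ext (hc.is_comm.comm _ _)),
    fun x hx => jr_sq h S hx, (jr_card h S htS L).1, ⟨t, ht, hns⟩⟩

/-- One class of involutions. -/
theorem jr_isConj (h : IsJRType K) {v w : K} (hv : orderOf v = 2) (hw : orderOf w = 2) : IsConj v w := by
  haveI : Fact (Nat.Prime 2) := ⟨Nat.prime_two⟩
  obtain ⟨S, hS⟩ := (CfsgLib.Signalizer.isPGroup_zpowers_involution hv).exists_le_sylow
  have hvS : v ∈ (S : Subgroup K) := hS (mem_zpowers v)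
  have H := jr_setting h S hvS hv
  obtain ⟨g, -, hg⟩ := H.exists_conj_mem (le_top : (S : Subgroup K) ≤ ⊤) (mem_top w) (involution_sq hw)
  obtain ⟨n, -, hn⟩ := H.one_class hvS (involution_ne_one hv) hg
    (fun e => involution_ne_one hw (conj_eq_one_iff.1 e))
  exact (isConj_iff.2 ⟨n, hn⟩ : IsConj v (g * w * g⁻¹)).trans (isConj_iff.2 ⟨g, rfl⟩ : IsConj w _).symm

/-- `C(a) ∩ C(b)` and `N(S)` generate. -/
theorem jr_generated (h : IsJRType K) (S : Sylow 2 K)
    (hbig : ∀ (t : K) (E N : Subgroup K), Loc t E N → Nat.card N ≠ 60)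
    {a b : K} (ha : a ∈ (S : Subgroup K)) (hb : b ∈ (S : Subgroup K)) (ha1 : a ≠ 1) (hb1 : b ≠ 1)
    (hne : a ≠ b) {H : Subgroup K} (hC : centralizer ({a} : Set K) ⊓ centralizer ({b} : Set K) ≤ H)
    (hN : normalizer ((S : Subgroup K) : Set K) ≤ H) : H = ⊤ := by
  haveI : Fact (Nat.Prime 2) := ⟨Nat.prime_two⟩
  have ha2 : orderOf a = 2 := orderOf_eq_two_of ha1 (jr_sq h S ha)
  have T := jr_setting h S ha ha2
  wlog hba : b ∈ Three.V S a generalizing a b
  · exact this hb ha hb1 ha1 hne.symm (by rwa [inf_comm]) (orderOf_eq_two_of hb1 (jr_sq h S hb))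
      ((T.total ha ha1 hb hb1 hne).resolve_left hba)
  refine jr_eq_top h S hN fun u hu hu2 => ?_
  obtain ⟨E, N, L⟩ := exists_loc_of_jr h hu2
  haveI := L.simple
  obtain ⟨-, hV4, hform⟩ := jr_card h S hu L
  -- the four group of `u`
  have hNL : N ≤ Three.L u := by
    intro y hy
    refine ⟨⟨y, L.N_le_C hy⟩, Three.le_res (K := N.subgroupOf (centralizer ({u} : Set K))) ?_ hy, rfl⟩
    apply map_injective (centralizer ({u} : Set K)).subtype_injective
    rw [map_commutator, subgroupOf_map_subtype, inf_of_le_left L.N_le_C]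
    refine le_antisymm (commutator_le_self N) ?_
    rw [← map_subtype_commutator, (simple_perfect L.not_comm_N).2, ← MonoidHom.range_eq_map, range_subtype]
  have hV : Three.V S u = (S : Subgroup K) ⊓ N :=
    (eq_of_le_of_card_ge (le_inf inf_le_left (inf_le_right.trans hNL))
      (by rw [hV4]; exact (T.card_V hu (involution_ne_one hu2)).le)).symm
  obtain ⟨n, hn, hna⟩ := T.one_class ha ha1 hu (involution_ne_one hu2)
  set v := n * b * n⁻¹ with hv
  have hvV : v ∈ (S : Subgroup K) ⊓ N := by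
    rw [← hV, ← hna]
    exact T.V_conj hn hba
  have hv2 : orderOf v = 2 := (orderOf_conj n b).trans (orderOf_eq_two_of hb1 (jr_sq h S hb))
  have hCv : ∀ y : K, y * u = u * y → y * v = v * y → y ∈ H := by
    intro y hyu hyv
    have h1 : n⁻¹ * y * n ∈ centralizer ({a} : Set K) ⊓ centralizer ({b} : Set K) := by
      constructor <;> refine mem_centralizer_singleton_iff.2 ?_
      · calc n⁻¹ * y * n * a = n⁻¹ * (y * (n * a * n⁻¹)) * n := by group
          _ = n⁻¹ * (n * a * n⁻¹ * y) * n := by rw [hna, hyu]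
          _ = a * (n⁻¹ * y * n) := by group
      · calc n⁻¹ * y * n * b = n⁻¹ * (y * (n * b * n⁻¹)) * n := by group
          _ = n⁻¹ * (n * b * n⁻¹ * y) * n := by rw [← hv, hyv]
          _ = b * (n⁻¹ * y * n) := by group
    have h2 := mul_mem (mul_mem (hN hn) (hC h1)) (inv_mem (hN hn))
    rwa [show n * (n⁻¹ * y * n) * n⁻¹ = y by group] at h2
  -- the Sylow subgroup of `N`
  obtain ⟨P, hP⟩ := (S.2.comap_of_injective N.subtype N.subtype_injective).exists_le_sylow
  have hPV : ∀ y : ↥N, y ∈ (P : Subgroup ↥N) → (y : K) ∈ (S : Subgroup K) := by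
    have heq : (S : Subgroup K).comap N.subtype = (P : Subgroup ↥N) := by
      refine eq_of_le_of_card_ge hP ?_
      rw [card_sylow L.data P, ← hV4]
      exact le_of_eq (Nat.card_congr
        { toFun := fun x => ⟨⟨(x : K), x.2.2⟩, x.2.1⟩
          invFun := fun x => ⟨((x : ↥N) : K), x.2, (x : ↥N).2⟩
          left_inv := fun _ => rfl
          right_inv := fun _ => rfl })
    exact fun y hy => (heq.symm ▸ hy : y ∈ (S : Subgroup K).comap N.subtype)
  -- elements of `C(u)` normalising `P` normalise `S`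
  have hnorm : ∀ m ∈ centralizer ({u} : Set K),
      (∀ p : ↥N, p ∈ (P : Subgroup ↥N) → m * (p : K) * m⁻¹ ∈ (S : Subgroup K)) → m ∈ H := by
    intro m hm hmP
    refine hN (mem_normalizer_iff_map_conj_eq.2 (eq_of_le_of_card_ge ?_ (card_map_of_injective (MulAut.conj m).injective).ge))
    rintro _ ⟨s, hs, rfl⟩
    show m * s * m⁻¹ ∈ (S : Subgroup K)
    obtain ⟨w, hw, e | e⟩ := hform s hs <;> rw [e]
    · exact hmP ⟨w, hw.2⟩ (hP hw.1)
    · rw [show m * (u * w) * m⁻¹ = (m * u * m⁻¹) * (m * w * m⁻¹) by group,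
        mem_centralizer_singleton_iff.1 hm, mul_inv_cancel_right]
      exact mul_mem hu (hmP ⟨w, hw.2⟩ (hP hw.1))
  have hNH : N ≤ H := by
    have := eq_top_of_contains L.data (hbig u E N L) P (v := ⟨v, hvV.2⟩) (hP hvV.1)
      (by rw [Subgroup.orderOf_mk]; exact hv2) (H := H.comap N.subtype)
      (fun y hy => hCv y (mem_centralizer_singleton_iff.1 (L.N_le_C y.2))
        (congrArg Subtype.val (mem_centralizer_singleton_iff.1 hy)))
      (fun m hm => hnorm m (L.N_le_C m.2) fun p hp => hPV _ ((mem_normalizer_iff.1 hm p).1 hp))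
    exact fun y hy => (this ▸ mem_top _ : (⟨y, hy⟩ : ↥N) ∈ H.comap N.subtype)
  -- Frattini
  intro c hc
  set γ : MulAut ↥N := MulDistribMulAction.toMulAut ↥(normalizer (N : Set K)) ↥N ⟨c, L.C_le_normalizer hc⟩
  obtain ⟨m, hm⟩ := MulAction.exists_smul_eq ↥N (P.mapSurjective (f := γ.toMonoidHom) γ.surjective) P
  have hmc : (m : K) * c ∈ H := by
    refine hnorm _ (mul_mem (L.N_le_C m.2) hc) fun p hp => ?_
    have h1 : m * γ p * m⁻¹ ∈ (P : Subgroup ↥N) := by
      rw [← hm, Sylow.coe_subgroup_smul]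
      exact ⟨γ p, ⟨p, hp, rfl⟩, rfl⟩
    rw [show (m : K) * c * (p : K) * ((m : K) * c)⁻¹ = (m : K) * (c * (p : K) * c⁻¹) * (m : K)⁻¹ by group]
    exact hPV _ h1
  simpa using mul_mem (inv_mem (hNH m.2)) hmc

end CfsgLib.Walter.Sections
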