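import Cfsg.Agent.Lib.Recog.Walter.Sections.Embedded
import Cfsg.Agent.Lib.Bender.GroupLemmas
import Cfsg.Agent.Lib.Classical.PSLTwoSimple

/-!
Owner: helper8. Walter, sections: `PSL(2, 2 ^ n)`.

* `IsTwoType.elemCent`, `IsTwoType.isSimpleGroup`: the interface.
* `isConj_of_embedded`: one class of involutions.
* `two_oddCore`, `two_eq_bot`, `two_eq_one_of_fixes`: centralisers of involutions and odd subgroups.
-/

set_option autoImplicit false
set_option linter.style.haveILetI false
set_option linter.unusedSectionVars false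

namespace CfsgLib.Walter.Sections

open Subgroup
open CfsgLib.TwoGroups (ElemCent)
open CfsgLib.Signalizer (orderOf_conj orderOf_eq_two_of involution_sq involution_inv involution_ne_one)

universe u

variable {K : Type u} [Group K] [Finite K]

theorem _root_.CfsgLib.Walter.IsTwoType.exists_equiv (h : IsTwoType K) :
    ∃ (F : Type) (_ : Field F) (_ : Fintype F), CharP F 2 ∧ 4 ≤ Fintype.card F ∧
      Nonempty (K ≃* Matrix.ProjectiveSpecialLinearGroup (Fin 2) F) := by
  obtain ⟨n, hn, F, iF, iT, hF, e⟩ := h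
  haveI : Fact (Nat.Prime 2) := ⟨Nat.prime_two⟩
  refine ⟨F, iF, iT, charP_of_card_eq_prime_pow hF, ?_, e⟩
  rw [hF]
  exact (by norm_num : 4 = 2 ^ 2) ▸ Nat.pow_le_pow_right two_pos hn

theorem _root_.CfsgLib.Walter.IsTwoType.isSimpleGroup (h : IsTwoType K) : IsSimpleGroup K := by
  obtain ⟨F, iF, iT, -, h4, ⟨e⟩⟩ := h.exists_equiv
  haveI := CfsgLib.Classical.isSimpleGroup_PSL_two (F := F) h4
  haveI : Nontrivial K := e.toEquiv.nontrivial
  exact IsSimpleGroup.isSimpleGroup_of_surjective e.symm.toMonoidHom e.symm.surjective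

theorem _root_.CfsgLib.Walter.IsTwoType.elemCent (h : IsTwoType K) (T : Sylow 2 K) : ElemCent T := by
  obtain ⟨F, iF, iT, hc, h4, ⟨e⟩⟩ := h.exists_equiv
  haveI := hc
  obtain ⟨f⟩ := CfsgLib.Recog.AffineTwo.psl_equiv_sl F
  exact CfsgLib.GW.DGroup.elemCent h4 (e.trans f) T

/-- A simple group with a strongly embedded subgroup has one class of involutions. -/
theorem isConj_of_embedded [IsSimpleGroup K] {H : Subgroup K} (hH : Cfsg.IsStronglyEmbedded H) {v w : K}
    (hv : orderOf v = 2) (hw : orderOf w = 2) : IsConj v w := by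
  have hconj := ((CfsgLib.Signalizer.stronglyEmbedded_iff_conj H).1 hH).2.2
  have cross : ∀ s t : K, orderOf s = 2 → orderOf t = 2 → s ∈ H → t ∉ H → IsConj s t := by
    intro s t hs ht hsH htH
    have hodd : Odd (orderOf (s * t)) := by
      rw [← Nat.not_even_iff_odd]
      rintro ⟨m, hm⟩
      have hm0 : m ≠ 0 := fun e => by
        rw [e, add_zero, orderOf_eq_zero_iff] at hm
        exact hm (isOfFinOrder_of_finite _)
      set z := (s * t) ^ m with hz
      have hz1 : z ≠ 1 := fun e => by
        have := orderOf_dvd_of_pow_eq_one e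
        have := Nat.le_of_dvd (Nat.pos_of_ne_zero hm0) this
        omega
      have hzz : z * z = 1 := by rw [hz, ← pow_add, ← hm, pow_orderOf_eq_one]
      have hz2 : orderOf z = 2 := orderOf_eq_two_of hz1 hzz
      have hinv : z⁻¹ = z := involution_inv hz2
      have hts : ∀ j : ℕ, s * (s * t) ^ j * s⁻¹ = ((s * t) ^ j)⁻¹ := fun j => by
        rw [← conj_pow, ← inv_pow, mul_inv_rev, involution_inv hs, involution_inv ht, ← mul_assoc,
          involution_sq hs, one_mul]
      have hzs : z * s = s * z := by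
        have h1 := hts m
        rw [← hz, hinv, involution_inv hs] at h1
        calc z * s = s * z * s * s := by rw [h1]
          _ = s * z := by rw [mul_assoc, involution_sq hs, mul_one]
      have hzH : z ∈ H := CfsgLib.Signalizer.stronglyEmbedded_centralizer hH hsH hs
        (mem_centralizer_singleton_iff.2 hzs)
      refine htH (CfsgLib.Signalizer.stronglyEmbedded_centralizer hH hzH hz2 (mem_centralizer_singleton_iff.2 ?_))
      have hst : z * (s * t) = (s * t) * z := by rw [hz, ← pow_succ, ← pow_succ']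
      calc t * z = s * ((s * t) * z) := by rw [← mul_assoc s, ← mul_assoc s, involution_sq hs, one_mul]
        _ = s * (z * (s * t)) := by rw [hst]
        _ = z * t := by rw [← mul_assoc, ← hzs, mul_assoc, ← mul_assoc s s, involution_sq hs, one_mul]
    obtain ⟨d, -, hd⟩ := CfsgLib.Signalizer.exists_conj_of_odd hs ht hodd
    exact isConj_iff.2 ⟨d, hd⟩
  -- every class has a member outside `H`
  have out : ∀ s : K, orderOf s = 2 → ∃ t, IsConj s t ∧ t ∉ H := by
    intro s hs
    by_contra hcon
    push Not at hcon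
    have hle : normalClosure ({s} : Set K) ≤ H := (Subgroup.closure_le _).2 fun x hx => by
      obtain ⟨a, ha, hc⟩ := Group.mem_conjugatesOfSet_iff.1 hx
      rw [Set.mem_singleton_iff.1 ha] at hc
      exact hcon x hc
    rcases (normalClosure_normal (s := ({s} : Set K))).eq_bot_or_eq_top with h | h
    · exact involution_ne_one hs (mem_bot.1 (h ▸ subset_normalClosure (Set.mem_singleton s)))
    · exact hH.1 (top_le_iff.1 (h ▸ hle))
  obtain ⟨x, hxH, hx⟩ : ∃ x ∈ H, orderOf x = 2 := by
    haveI : Fact (Nat.Prime 2) := ⟨Nat.prime_two⟩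
    obtain ⟨⟨x, hxH⟩, hx⟩ := exists_prime_orderOf_dvd_card' (G := H) 2 (even_iff_two_dvd.1 hH.2.1)
    exact ⟨x, hxH, by rw [← hx, Subgroup.orderOf_mk]⟩
  have all : ∀ s : K, orderOf s = 2 → IsConj x s := fun s hs => by
    obtain ⟨t, hst, htH⟩ := out s hs
    obtain ⟨g, rfl⟩ := isConj_iff.1 hst
    exact (cross x _ hx ((orderOf_conj g s).trans hs) hxH htH).trans hst.symm
  exact (all v hv).symm.trans (all w hw)

variable (h : IsTwoType K)
include h

theorem two_isConj {v w : K} (hv : orderOf v = 2) (hw : orderOf w = 2) : IsConj v w := by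
  obtain ⟨T⟩ := (inferInstance : Nonempty (Sylow 2 K))
  haveI := h.isSimpleGroup
  exact isConj_of_embedded (h.elemCent T).stronglyEmbedded hv hw

theorem two_oddCore {v : K} (hv : orderOf v = 2) :
    Cfsg.oddCore ↥(centralizer ({v} : Set K)) = ⊥ := by
  obtain ⟨T⟩ := (inferInstance : Nonempty (Sylow 2 K))
  refine (eq_bot_iff_forall _).2 fun x hx => Subtype.ext ((h.elemCent T).eq_one_of_comm hv
    (mem_centralizer_singleton_iff.1 x.2) ?_)
  rw [Subgroup.orderOf_coe]
  exact (CfsgLib.ZStar.odd_card_oddCore _).of_dvd_nat (Subgroup.orderOf_dvd_natCard _ hx)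

/-- An odd subgroup normalised by `C(v)` is trivial. -/
theorem two_eq_bot {v : K} (hv : orderOf v = 2) {X : Subgroup K} (hX : Odd (Nat.card X))
    (hn : centralizer ({v} : Set K) ≤ normalizer (X : Set K)) : X = ⊥ := by
  haveI : Fact (Nat.Prime 2) := ⟨Nat.prime_two⟩
  obtain ⟨T, hT⟩ := (CfsgLib.Signalizer.isPGroup_zpowers_involution hv).exists_le_sylow
  have E := h.elemCent T
  have hvT : v ∈ (T : Subgroup K) := hT (mem_zpowers v)
  obtain ⟨w, hw, hw1, hwv⟩ : ∃ w ∈ (T : Subgroup K), w ≠ 1 ∧ w ≠ v := by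
    by_contra hcon
    push Not at hcon
    have hle : (T : Subgroup K) ≤ zpowers v := fun p hp => by
      by_cases hp1 : p = 1
      · rw [hp1]; exact one_mem _
      · rw [hcon p hp hp1]; exact mem_zpowers v
    have := E.four_le_card.trans (card_le_of_le hle)
    rw [Nat.card_zpowers, hv] at this
    omega
  have hsq : ∀ t ∈ (T : Subgroup K), t * t = 1 := fun t ht => by rw [← pow_two]; exact E.sq_eq_one ht
  have hc := CfsgLib.TwoGroups.mul_comm_of_mul_self (A := (T : Subgroup K)) hsq hvT hw
  have hTN : ∀ t ∈ (T : Subgroup K), t ∈ normalizer (X : Set K) := fun t ht => hn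
    (mem_centralizer_singleton_iff.2 (CfsgLib.TwoGroups.mul_comm_of_mul_self (A := (T : Subgroup K)) hsq ht hvT))
  refine le_bot_iff.1 (CfsgLib.Bender.le_of_four_centralizers hX hv
    (orderOf_eq_two_of hw1 (hsq w hw)) hc hwv.symm (hTN v hvT) (hTN w hw) fun x hx a ha hxa => ?_)
  refine mem_bot.2 (E.eq_one_of_comm (a := a) ?_ hxa (hX.of_dvd_nat (X.orderOf_dvd_natCard hx)))
  have haT : a ∈ (T : Subgroup K) ∧ a ≠ 1 := by
    rcases ha with rfl | rfl | rfl
    · exact ⟨hvT, involution_ne_one hv⟩
    · exact ⟨hw, hw1⟩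
    · refine ⟨mul_mem hvT hw, fun e => hwv ?_⟩
      rw [← involution_inv hv, eq_inv_of_mul_eq_one_right e]
  exact orderOf_eq_two_of haT.2 (hsq a haT.1)

/-- An automorphism of odd order fixing the centraliser of an involution is trivial. -/
theorem two_eq_one_of_fixes {v : K} (hv : orderOf v = 2) (α : MulAut K) (hα : Odd (orderOf α))
    (hfix : ∀ c ∈ centralizer ({v} : Set K), α c = c) : α = 1 := by
  haveI : Fact (Nat.Prime 2) := ⟨Nat.prime_two⟩
  haveI := h.isSimpleGroup
  obtain ⟨T, hT⟩ := (CfsgLib.Signalizer.isPGroup_zpowers_involution hv).exists_le_sylow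
  have E := h.elemCent T
  obtain ⟨u, hu, rfl⟩ := CfsgLib.GW.DGroup.exists_translation E α fun t ht => hfix t
    (mem_centralizer_singleton_iff.2 (CfsgLib.TwoGroups.mul_comm_of_mul_self (A := (T : Subgroup K))
      (fun t ht => by rw [← pow_two]; exact E.sq_eq_one ht) ht (hT (mem_zpowers v))))
  have h2 : (MulAut.conj u : MulAut K) ^ 2 = 1 := by rw [← map_pow, E.sq_eq_one hu, map_one]
  refine orderOf_eq_one_iff.1 (Nat.dvd_one.1 ?_)
  rw [← (Nat.coprime_two_left.2 hα).gcd_eq_one]
  exact Nat.dvd_gcd (orderOf_dvd_of_pow_eq_one h2) dvd_rfl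

end CfsgLib.Walter.Sections
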