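import Cfsg.Agent.Lib.Recog.Walter.LocBal
import Cfsg.Agent.Lib.Recog.Walter.Sections.Two
import Cfsg.Agent.Lib.Recog.Walter.Sections.JR

/-!
Owner: helper8. Walter, sections: locally balanced types.

* `IsTwoType.locBal`, `IsJRType.locBal`, `locBal_five`: `PSL(2, 2 ^ n)`, Janko–Ree type and `PSL(2, 5)`.
* `card_eq_sixty_iff`: among the groups of odd type only `PSL(2, 5)` has order sixty.
-/

set_option autoImplicit false
set_option linter.style.haveILetI false
set_option linter.unusedSectionVars false

namespace CfsgLib.Walter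

open Subgroup
open CfsgLib.Signalizer (involution_sq)

universe u

variable {K : Type u} [Group K] [Finite K]

theorem IsTwoType.locBal (h : IsTwoType K) : LocBal K :=
  ⟨fun _ hv => Sections.two_oddCore h hv, fun _ hv α hα hfix => Sections.two_eq_one_of_fixes h hv α hα hfix⟩

theorem IsJRType.locBal (h : IsJRType K) : LocBal K :=
  ⟨fun _ hv => Sections.jr_oddCore h hv, fun _ hv α hα hfix => Sections.jr_eq_one_of_fixes h hv α hα hfix⟩

/-- `PSL(2, 5)` is locally balanced. -/
theorem locBal_five {F : Type} [Field F] [Fintype F] (h5 : Fintype.card F = 5)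
    (e : K ≃* Matrix.ProjectiveSpecialLinearGroup (Fin 2) F) : LocBal K := by
  have hO : IsOddType K := ⟨F, _, _, by omega, by omega, ⟨e⟩⟩
  haveI := hO.isSimpleGroup
  refine ⟨fun v hv => ?_, fun v hv α hα hfix => Sections.eq_one_of_fixes hO.pslData hv α hα hfix⟩
  have h4 := Sections.card_centralizer_five h5 e hv
  have hodd := CfsgLib.ZStar.odd_card_oddCore ↥(centralizer ({v} : Set K))
  have hd : Nat.card ↥(Cfsg.oddCore ↥(centralizer ({v} : Set K))) ∣ 2 ^ 2 := by
    rw [show (2 : ℕ) ^ 2 = 4 from rfl, ← h4]
    exact card_subgroup_dvd_card _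
  exact card_eq_one.1 (((Nat.coprime_two_right.2 hodd).pow_right 2).eq_one_of_dvd hd)

/-- Among the groups of odd type only `PSL(2, 5)` has order sixty. -/
theorem card_eq_sixty_iff {F : Type} [Field F] [Fintype F] (h5 : 5 ≤ Fintype.card F)
    (hq : Fintype.card F % 8 = 3 ∨ Fintype.card F % 8 = 5)
    (e : K ≃* Matrix.ProjectiveSpecialLinearGroup (Fin 2) F) : Nat.card K = 60 ↔ Fintype.card F = 5 := by
  constructor
  · intro h
    by_contra hne
    exact Sections.card_ne_sixty (F := F) (by omega) e h
  · intro h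
    rw [Nat.card_congr e.toEquiv]
    have hc := CfsgLib.Classical.Two.card_PSL_two (F := F)
    rw [h] at hc
    simp at hc
    omega

/-- A group of odd type and order sixty is locally balanced. -/
theorem IsOddType.locBal_sixty (h : IsOddType K) (h60 : Nat.card K = 60) : LocBal K := by
  obtain ⟨F, iF, iT, h5, hq, ⟨e⟩⟩ := h
  exact locBal_five ((card_eq_sixty_iff h5 hq e).1 h60) e

end CfsgLib.Walter
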