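import Cfsg.Agent.Lib.Recog.Walter.Sections.Embedded
import Cfsg.Agent.Lib.TwoFusion.AbelianPSL.Local
import Cfsg.Agent.Lib.Classical.SL2Structure
import Cfsg.Agent.Lib.Classical.PSLTwoSimple

/-!
Owner: helper8. Walter, sections: `PSL(2, q)`, `q ≡ 3, 5 (mod 8)`.

* `pslData_of_mod`, `IsOddType.pslData`, `IsOddType.isSimpleGroup`: the interface.
* `sylow_sq`, `exists_conj_normalizer`: the four group and its normaliser.
* `centralises`: an odd subgroup normalised by `C(v)` centralises `v`.
* `eq_one_of_fixes`: an odd automorphism fixing `C(v)` is trivial.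
* `eq_top_of_contains`: `C(v)` and `N(S)` generate, unless the order is sixty.
-/

set_option autoImplicit false
set_option linter.style.haveILetI false
set_option linter.unusedSectionVars false

namespace CfsgLib.Walter.Sections

open Subgroup
open scoped commutatorElement
open CfsgLib.AbelianPSL (PSLData)
open CfsgLib.Signalizer (orderOf_conj orderOf_eq_two_of involution_sq involution_ne_one involution_inv)

universe u

variable {F : Type} [Field F] [Fintype F]

/-- `PSL(2, q)`, `q ≡ 3, 5 (mod 8)`, has the properties of `PSLData`. -/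
theorem pslData_of_mod (hq : Fintype.card F % 8 = 3 ∨ Fintype.card F % 8 = 5) :
    PSLData (Matrix.ProjectiveSpecialLinearGroup (Fin 2) F) := by
  obtain ⟨P⟩ := (inferInstance : Nonempty (Sylow 2 (Matrix.ProjectiveSpecialLinearGroup (Fin 2) F)))
  haveI := CfsgLib.Classical.Two.isKleinFour_sylow_PSL rfl hq P
  haveI : Fact (Nat.Prime 2) := ⟨Nat.prime_two⟩
  exact CfsgLib.AbelianPSL.pslData (Nat.odd_iff.2 (by omega)) P
    (IsPGroup.isMulCommutative_of_card_eq_prime_sq (p := 2) (IsKleinFour.card_four.trans (by norm_num)))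

variable {K : Type u} [Group K] [Finite K]

theorem _root_.CfsgLib.Walter.IsOddType.pslData (h : IsOddType K) : PSLData K := by
  obtain ⟨F, iF, iT, -, hq, ⟨e⟩⟩ := h
  exact (pslData_of_mod hq).of_equiv e

theorem _root_.CfsgLib.Walter.IsOddType.isSimpleGroup (h : IsOddType K) : IsSimpleGroup K := by
  obtain ⟨F, iF, iT, h5, -, ⟨e⟩⟩ := h
  haveI := CfsgLib.Classical.isSimpleGroup_PSL_two (F := F) (by omega)
  haveI : Nontrivial K := e.toEquiv.nontrivial
  exact IsSimpleGroup.isSimpleGroup_of_surjective e.symm.toMonoidHom e.symm.surjective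

variable (D : PSLData K)
include D

theorem not_comm : ¬ IsMulCommutative K := fun h => by
  obtain ⟨a, b, ha, hb, hne, -⟩ := D.four
  obtain ⟨g, hg⟩ := isConj_iff.1 (D.conj a b ha hb)
  rw [h.is_comm.comm g a, mul_inv_cancel_right] at hg
  exact hne hg

theorem not_eight_dvd : ¬ 8 ∣ Nat.card K := fun h => by
  have := (Nat.Prime.pow_dvd_iff_le_factorization Nat.prime_two Nat.card_pos.ne' (k := 3)).1 h
  rw [D.two_pow] at this
  omega

theorem card_sylow (P : Sylow 2 K) : Nat.card ↥(P : Subgroup K) = 4 := by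
  haveI : Fact (Nat.Prime 2) := ⟨Nat.prime_two⟩
  rw [Sylow.card_eq_multiplicity, D.two_pow]
  norm_num

/-- A Sylow 2-subgroup has exponent two. -/
theorem sylow_sq (P : Sylow 2 K) {x : K} (hx : x ∈ (P : Subgroup K)) : x * x = 1 := by
  haveI : Fact (Nat.Prime 2) := ⟨Nat.prime_two⟩
  obtain ⟨a, b, ha, hb, hne, hc⟩ := D.four
  obtain ⟨Q, hQ⟩ := ((CfsgLib.Signalizer.isPGroup_zpowers_involution ha).to_sup_of_normal_right'
    (CfsgLib.Signalizer.isPGroup_zpowers_involution hb) (zpowers_le.2 (mem_normalizer_iff_map_conj_eq.2 (by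
      rw [MonoidHom.map_zpowers]
      show zpowers (a * b * a⁻¹) = _
      rw [hc, mul_inv_cancel_right])))).exists_le_sylow
  have haQ : a ∈ (Q : Subgroup K) := hQ (mem_sup_left (mem_zpowers a))
  have hbQ : b ∈ (Q : Subgroup K) := hQ (mem_sup_right (mem_zpowers b))
  suffices h : ∀ y ∈ (Q : Subgroup K), y * y = 1 by
    exact congrArg Subtype.val ((P.equiv Q).injective (a₁ := ⟨x, hx⟩ * ⟨x, hx⟩) (a₂ := 1) (by
      rw [map_mul, map_one]
      exact Subtype.ext (h _ ((P.equiv Q) ⟨x, hx⟩).2)))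
  intro y hy
  have hQc : IsMulCommutative ↥(Q : Subgroup K) :=
    IsPGroup.isMulCommutative_of_card_eq_prime_sq (p := 2) (by rw [card_sylow D Q]; norm_num)
  exact CfsgLib.AbelianPSL.sq_of_commute_four D ha hb hne
    (congrArg Subtype.val (hQc.is_comm.comm ⟨y, hy⟩ ⟨a, haQ⟩))
    (congrArg Subtype.val (hQc.is_comm.comm ⟨y, hy⟩ ⟨b, hbQ⟩))

theorem sylow_comm_pair (P : Sylow 2 K) : IsMulCommutative ↥(P : Subgroup K) := by
  haveI : Fact (Nat.Prime 2) := ⟨Nat.prime_two⟩
  exact IsPGroup.isMulCommutative_of_card_eq_prime_sq (p := 2) (by rw [card_sylow D P]; norm_num)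

theorem orderOf_of_mem (P : Sylow 2 K) {x : K} (hx : x ∈ (P : Subgroup K)) (hx1 : x ≠ 1) : orderOf x = 2 :=
  orderOf_eq_two_of hx1 (sylow_sq D P hx)

/-- Two involutions of a Sylow 2-subgroup are conjugate in its normaliser. -/
theorem exists_conj_normalizer (P : Sylow 2 K) {v w : K} (hv : v ∈ (P : Subgroup K))
    (hw : w ∈ (P : Subgroup K)) (hv2 : orderOf v = 2) (hw2 : orderOf w = 2) :
    ∃ n ∈ normalizer ((P : Subgroup K) : Set K), n * v * n⁻¹ = w := by
  haveI : Fact (Nat.Prime 2) := ⟨Nat.prime_two⟩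
  obtain ⟨g, hg⟩ := isConj_iff.1 (D.conj v w hv2 hw2)
  obtain ⟨n, hn, hne⟩ := Transfer.exists_normalizer_conj_of_isMulCommutative P (sylow_comm_pair D P)
    (X := {v}) (Set.singleton_subset_iff.mpr hv) (g := g⁻¹)
    (by rw [Set.image_singleton, inv_inv, hg]; exact Set.singleton_subset_iff.mpr hw)
  refine ⟨n⁻¹, inv_mem hn, ?_⟩
  have h := hne v rfl
  rw [inv_inv, hg] at h
  rw [inv_inv, h]

/-- An odd subgroup normalised by `C(v)` centralises `v`. -/
theorem centralises {v : K} (hv : orderOf v = 2) {X : Subgroup K} (hX : Odd (Nat.card X))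
    (hn : centralizer ({v} : Set K) ≤ normalizer (X : Set K)) : X ≤ centralizer ({v} : Set K) := by
  obtain ⟨n, hcard⟩ : ∃ n, Nat.card X = n := ⟨_, rfl⟩
  induction n using Nat.strong_induction_on generalizing X with
  | _ n ih =>
  by_cases hne : X = ⊥
  · rw [hne]; exact bot_le
  haveI : Group.IsSolvable X := Cfsg.Agent.S0205.result hX
  haveI : Nontrivial X := (nontrivial_iff_ne_bot X).2 hne
  have hlt : ⁅X, X⁆ < X := by
    refine lt_of_le_of_ne (commutator_le_self X) fun e => ?_
    refine (Group.IsSolvable.commutator_lt_top_of_nontrivial (G := X)).ne ?_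
    apply map_injective X.subtype_injective
    rw [map_subtype_commutator, ← MonoidHom.range_eq_map, range_subtype]
    exact e
  have hodd : ∀ x ∈ X, Odd (orderOf x) := fun x hx => hX.of_dvd_nat (X.orderOf_dvd_natCard hx)
  have hvn : v ∈ normalizer (X : Set K) := hn (mem_centralizer_singleton_iff.2 rfl)
  have hnn : normalizer (X : Set K) ≤ normalizer ((⁅X, X⁆ : Subgroup K) : Set K) := fun g hg => by
    rw [mem_normalizer_iff_map_conj_eq] at hg ⊢
    rw [map_commutator, hg]
  have h0 : ⁅X, X⁆ ≤ centralizer ({v} : Set K) :=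
    ih _ (hcard ▸ lt_of_le_of_ne (card_le_of_le hlt.le) fun e => hlt.ne (eq_of_le_of_card_ge hlt.le e.ge))
      (CfsgLib.Bender.odd_of_le hlt.le hX) (hn.trans hnn) rfl
  intro x hx
  rw [mem_centralizer_singleton_iff]
  by_cases hd : ⁅X, X⁆ = ⊥
  · -- `X` is abelian: its inverted part is trivial
    have hab : ∀ a ∈ X, ∀ b ∈ X, a * b = b * a := fun a ha b hb => by
      have h := commutator_mem_commutator ha hb
      rw [hd, mem_bot, commutatorElement_eq_one_iff_mul_comm] at h
      exact h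
    let I : Subgroup K :=
      { carrier := {z | z ∈ X ∧ v * z * v⁻¹ = z⁻¹}
        one_mem' := ⟨one_mem _, by simp⟩
        mul_mem' := by
          rintro z w ⟨hz, hz'⟩ ⟨hw, hw'⟩
          refine ⟨mul_mem hz hw, ?_⟩
          rw [← conj_mul, hz', hw', ← mul_inv_rev, hab w hw z hz]
        inv_mem' := by
          rintro z ⟨hz, hz'⟩
          exact ⟨inv_mem hz, by rw [← conj_inv, hz']⟩ }
    have hI : I = ⊥ := by
      refine CfsgLib.AbelianPSL.eq_bot_of_inverted D hv (CfsgLib.Bender.odd_of_le (fun z hz => hz.1) hX)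
        (fun z hz => hz.2) fun c hc => ?_
      have hcv : c * v * c⁻¹ = v := mul_inv_eq_iff_eq_mul.2 (mem_centralizer_singleton_iff.1 hc)
      refine mem_normalizer_iff.2 fun y => ?_
      show (y ∈ X ∧ v * y * v⁻¹ = y⁻¹) ↔ (c * y * c⁻¹ ∈ X ∧ v * (c * y * c⁻¹) * v⁻¹ = (c * y * c⁻¹)⁻¹)
      have e : v * (c * y * c⁻¹) * v⁻¹ = c * (v * y * v⁻¹) * c⁻¹ := by
        conv_lhs => rw [← hcv]
        group
      rw [e, conj_inv, ← mem_normalizer_iff.1 (hn hc) y]
      exact and_congr_right fun _ => ⟨fun h => by rw [h], fun h => mul_left_cancel (mul_right_cancel h)⟩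
    have h1 : v * x * v⁻¹ * x⁻¹ ∈ I := by
      have hx' := (mem_normalizer_iff.1 hvn x).1 hx
      refine ⟨mul_mem hx' (inv_mem hx), ?_⟩
      have hvv : v * v = 1 := involution_sq hv
      calc v * (v * x * v⁻¹ * x⁻¹) * v⁻¹ = (v * v) * x * (v * v)⁻¹ * (v * x⁻¹ * v⁻¹) := by group
        _ = x * (v * x⁻¹ * v⁻¹) := by rw [hvv]; group
        _ = (v * x * v⁻¹ * x⁻¹)⁻¹ := by group
    rw [hI, mem_bot, mul_inv_eq_one, mul_inv_eq_iff_eq_mul] at h1
    exact h1.symm
  · -- `X` permutes the unique involution of an element of `[X, X]`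
    obtain ⟨z, hz, hz1⟩ := (bot_or_exists_ne_one _).resolve_left hd
    have hsq := CfsgLib.AbelianPSL.sq_ne_one_of_odd D (hodd z (hlt.le hz)) hz1
    have hz' : x⁻¹ * z * x ∈ ⁅X, X⁆ :=
      (mem_normalizer_iff''.1 (hnn (le_normalizer hx)) z).1 hz
    have h1 : x * v * x⁻¹ = v := D.unique z _ v hsq ((orderOf_conj x v).trans hv) hv (by
      calc z * (x * v * x⁻¹) = x * ((x⁻¹ * z * x) * v) * x⁻¹ := by group
        _ = x * (v * (x⁻¹ * z * x)) * x⁻¹ := by rw [mem_centralizer_singleton_iff.1 (h0 hz')]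
        _ = x * v * x⁻¹ * z := by group) (mem_centralizer_singleton_iff.1 (h0 hz))
    exact mul_inv_eq_iff_eq_mul.1 h1

/-- The set of fixed points of an automorphism containing `C(v)` contains `N(P)` and all `C(u)`, `u ∈ P`. -/
theorem fixes_normalizer (P : Sylow 2 K) {v : K} (hv : v ∈ (P : Subgroup K)) (hv2 : orderOf v = 2)
    (α : MulAut K) (hα : Odd (orderOf α)) (hfix : ∀ c ∈ centralizer ({v} : Set K), α c = c) {n : K}
    (hn : n ∈ normalizer ((P : Subgroup K) : Set K)) : α n = n := by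
  haveI : Fact (Nat.Prime 2) := ⟨Nat.prime_two⟩
  have hP := sylow_comm_pair D P
  have hPfix : ∀ p ∈ (P : Subgroup K), α p = p := fun p hp => hfix p
    (mem_centralizer_singleton_iff.2 (congrArg Subtype.val (hP.is_comm.comm ⟨p, hp⟩ ⟨v, hv⟩)))
  set c := n⁻¹ * α n with hc
  have hcP : ∀ p ∈ (P : Subgroup K), c * p = p * c := fun p hp => by
    have h1 := hPfix _ ((mem_normalizer_iff.1 hn p).1 hp)
    rw [map_mul, map_mul, map_inv, hPfix p hp, mul_inv_eq_iff_eq_mul] at h1
    rw [hc, mul_assoc, h1]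
    group
  obtain ⟨w, hw, hw1, hwv⟩ : ∃ w ∈ (P : Subgroup K), w ≠ 1 ∧ w ≠ v := by
    by_contra hcon
    push Not at hcon
    have hle : (P : Subgroup K) ≤ zpowers v := fun p hp => by
      by_cases hp1 : p = 1
      · rw [hp1]; exact one_mem _
      · rw [hcon p hp hp1]; exact mem_zpowers v
    have := card_le_of_le hle
    rw [card_sylow D P, Nat.card_zpowers, hv2] at this
    omega
  have hc2 : c * c = 1 := CfsgLib.AbelianPSL.sq_of_commute_four D hv2 (orderOf_of_mem D P hw hw1) hwv.symm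
    (hcP v hv) (hcP w hw)
  have hcf : α c = c := hfix c (mem_centralizer_singleton_iff.2 (hcP v hv))
  have hpow : ∀ j : ℕ, (α ^ j) n = n * c ^ j := by
    intro j
    induction j with
    | zero => simp
    | succ j ih =>
      rw [pow_succ', MulAut.mul_apply, ih, map_mul, map_pow, hcf, show α n = n * c by rw [hc]; group,
        mul_assoc, ← pow_succ']
  have h := hpow (orderOf α)
  rw [pow_orderOf_eq_one, MulAut.one_apply, left_eq_mul] at h
  have hc1 : c = 1 := by
    refine orderOf_eq_one_iff.1 (Nat.dvd_one.1 ?_)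
    rw [← (Nat.coprime_two_left.2 hα).gcd_eq_one]
    exact Nat.dvd_gcd (orderOf_dvd_of_pow_eq_one (by rw [pow_two]; exact hc2)) (orderOf_dvd_of_pow_eq_one h)
  rw [hc, inv_mul_eq_one] at hc1
  exact hc1.symm

/-- An automorphism of odd order fixing the centraliser of an involution is trivial. -/
theorem eq_one_of_fixes [IsSimpleGroup K] {v : K} (hv2 : orderOf v = 2) (α : MulAut K)
    (hα : Odd (orderOf α)) (hfix : ∀ c ∈ centralizer ({v} : Set K), α c = c) : α = 1 := by
  haveI : Fact (Nat.Prime 2) := ⟨Nat.prime_two⟩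
  obtain ⟨P, hP⟩ := (CfsgLib.Signalizer.isPGroup_zpowers_involution hv2).exists_le_sylow
  have hv : v ∈ (P : Subgroup K) := hP (mem_zpowers v)
  let H : Subgroup K := MonoidHom.eqLocus α.toMonoidHom (MonoidHom.id K)
  by_cases hH : H = ⊤
  · exact MulEquiv.ext fun x => (hH ▸ mem_top x : x ∈ H)
  have hN : normalizer ((P : Subgroup K) : Set K) ≤ H := fun n hn => fixes_normalizer D P hv hv2 α hα hfix hn
  have hC : ∀ u ∈ (P : Subgroup K), orderOf u = 2 → centralizer ({u} : Set K) ≤ H := by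
    intro u hu hu2 y hy
    obtain ⟨n, hn, rfl⟩ := exists_conj_normalizer D P hv hu hv2 hu2
    have h1 : n⁻¹ * y * n ∈ centralizer ({v} : Set K) := by
      rw [mem_centralizer_singleton_iff]
      calc n⁻¹ * y * n * v = n⁻¹ * (y * (n * v * n⁻¹)) * n := by group
        _ = n⁻¹ * (n * v * n⁻¹ * y) * n := by rw [mem_centralizer_singleton_iff.1 hy]
        _ = v * (n⁻¹ * y * n) := by group
    have h2 := mul_mem (mul_mem (hN hn) (show n⁻¹ * y * n ∈ H from hfix _ h1)) (inv_mem (hN hn))
    rwa [show n * (n⁻¹ * y * n) * n⁻¹ = y by group] at h2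
  exact eq_one_of_embedded (not_comm D) (not_eight_dvd D) (stronglyEmbedded_of_contains P (sylow_comm_pair D P) hH
    (hv2 ▸ orderOf_dvd_natCard v) hN hC) P α hα fun x hx => hfix x
      (mem_centralizer_singleton_iff.2 (congrArg Subtype.val ((sylow_comm_pair D P).is_comm.comm ⟨x, hx⟩ ⟨v, hv⟩)))

/-- `C(v)` and `N(P)` generate, unless the group has order sixty. -/
theorem eq_top_of_contains [IsSimpleGroup K] (h60 : Nat.card K ≠ 60) (P : Sylow 2 K) {v : K}
    (hv : v ∈ (P : Subgroup K)) (hv2 : orderOf v = 2) {H : Subgroup K}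
    (hC : centralizer ({v} : Set K) ≤ H) (hN : normalizer ((P : Subgroup K) : Set K) ≤ H) : H = ⊤ := by
  by_contra hH
  have hC' : ∀ u ∈ (P : Subgroup K), orderOf u = 2 → centralizer ({u} : Set K) ≤ H := by
    intro u hu hu2 y hy
    obtain ⟨n, hn, rfl⟩ := exists_conj_normalizer D P hv hu hv2 hu2
    have h1 : n⁻¹ * y * n ∈ centralizer ({v} : Set K) := by
      rw [mem_centralizer_singleton_iff]
      calc n⁻¹ * y * n * v = n⁻¹ * (y * (n * v * n⁻¹)) * n := by group
        _ = n⁻¹ * (n * v * n⁻¹ * y) * n := by rw [mem_centralizer_singleton_iff.1 hy]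
        _ = v * (n⁻¹ * y * n) := by group
    have h2 := mul_mem (mul_mem (hN hn) (hC h1)) (inv_mem (hN hn))
    rwa [show n * (n⁻¹ * y * n) * n⁻¹ = y by group] at h2
  obtain ⟨F, iF, iT, hch, h4, ⟨e⟩⟩ := iso_four_of_embedded (not_comm D) (not_eight_dvd D)
    (stronglyEmbedded_of_contains P (sylow_comm_pair D P) hH (hv2 ▸ orderOf_dvd_natCard v) hN hC')
  refine h60 ?_
  rw [Nat.card_congr e.toEquiv]
  have hc := CfsgLib.Classical.Two.card_PSL_two (F := F)
  rw [h4] at hc
  simpa using hc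

omit D in
/-- For `q ≠ 5` the order is not sixty. -/
theorem card_ne_sixty {F : Type} [Field F] [Fintype F] (h11 : 11 ≤ Fintype.card F)
    (e : K ≃* Matrix.ProjectiveSpecialLinearGroup (Fin 2) F) : Nat.card K ≠ 60 := by
  intro h
  have hc := CfsgLib.Classical.Two.card_PSL_two (F := F)
  rw [← Nat.card_congr e.toEquiv, h] at hc
  have h1 : Nat.gcd 2 (Fintype.card F - 1) ≤ 2 := Nat.gcd_le_left _ two_pos
  have h2 : 11 * 120 ≤ Fintype.card F * (Fintype.card F ^ 2 - 1) := by
    refine Nat.mul_le_mul h11 ?_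
    have := Nat.pow_le_pow_left h11 2
    omega
  have h3 : Nat.gcd 2 (Fintype.card F - 1) * 60 ≤ 2 * 60 := Nat.mul_le_mul_right _ h1
  omega

omit D in
/-- In `PSL(2, 5)` the centraliser of an involution has order four. -/
theorem card_centralizer_five {F : Type} [Field F] [Fintype F] (h5 : Fintype.card F = 5)
    (e : K ≃* Matrix.ProjectiveSpecialLinearGroup (Fin 2) F) {v : K} (hv : orderOf v = 2) :
    Nat.card (centralizer ({v} : Set K)) = 4 := by
  have h2 : (2 : F) ≠ 0 := by
    intro h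
    have hc : ringChar F = 2 := CharP.ringChar_of_prime_eq_zero Nat.prime_two (by exact_mod_cast h)
    have := FiniteField.even_card_of_char_two hc
    omega
  obtain ⟨ε, hε, hd, -, hcard⟩ := CfsgLib.GW.Dne.PSLAut.card_centralizer_involution h2
    (x := e v) (by rw [MulEquiv.orderOf_eq]; exact hv)
  have hmap : (centralizer ({v} : Set K)).map e.toMonoidHom = centralizer ({e v} : Set _) := by
    ext y
    simp only [mem_map_equiv, mem_centralizer_singleton_iff]
    exact ⟨fun h => by simpa using congrArg e h, fun h => e.injective (by simpa using h)⟩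
  have : Nat.card (centralizer ({v} : Set K)) = Nat.card (centralizer ({e v} : Set _)) := by
    rw [← hmap, card_map_of_injective (f := e.toMonoidHom) e.injective]
  rw [h5] at hd hcard
  rcases hε with rfl | rfl
  · rw [this]
    norm_num at hcard
    exact_mod_cast hcard
  · norm_num at hd

end CfsgLib.Walter.Sections
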