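import Cfsg.Agent.Lib.Recog.Walter.Defs
import Cfsg.Agent.Lib.Transfer.Abelian
import Cfsg.Agent.Lib.ZStar.Main
import Cfsg.Agent.S0205

/-!
Owner: helper8. Walter, sections: 2-automorphisms fixing an abelian Sylow 2-subgroup.

* `aut_inner`: a 2-power automorphism of a simple group which fixes an abelian Sylow 2-subgroup pointwise
  is conjugation by one of its elements (transfer and the Z*-theorem).
-/

set_option autoImplicit false
set_option linter.style.haveILetI false
set_option linter.unusedSectionVars false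

namespace CfsgLib.Walter.Sections

open Subgroup
open scoped commutatorElement
open CfsgLib.AbelianSolvCent (AbSylow)

universe u

variable {Y : Type u} [Group Y] [Finite Y]

/-- An involution centralised by `N(P)`, `P` an abelian Sylow 2-subgroup containing it, is isolated. -/
theorem isolated_of_normalizer (P : Sylow 2 Y) (hP : IsMulCommutative ↥(P : Subgroup Y)) {z : Y}
    (hz : orderOf z = 2) (hzP : z ∈ (P : Subgroup Y))
    (hzN : ∀ n ∈ normalizer ((P : Subgroup Y) : Set Y), n * z = z * n) :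
    Cfsg.IsIsolatedInvolution z := by
  haveI : Fact (Nat.Prime 2) := ⟨Nat.prime_two⟩
  have hweak : ∀ c : Y, c * z * c⁻¹ ∈ (P : Subgroup Y) → c * z * c⁻¹ = z := by
    intro c hc
    obtain ⟨n, hn, hne⟩ := Transfer.exists_normalizer_conj_of_isMulCommutative P hP (X := {z})
      (Set.singleton_subset_iff.mpr hzP) (g := c⁻¹)
      (by rw [Set.image_singleton, inv_inv]; exact Set.singleton_subset_iff.mpr hc)
    have h := hne z rfl
    rw [inv_inv] at h
    rw [← h, mul_assoc, ← hzN n hn, inv_mul_cancel_left]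
  refine ⟨hz, fun g hg => ?_⟩
  set w := g * z * g⁻¹ with hw
  have hw2 : orderOf w = 2 := by rw [hw, CfsgLib.Signalizer.orderOf_conj, hz]
  have hQ : IsPGroup 2 (zpowers z ⊔ zpowers w : Subgroup Y) :=
    (CfsgLib.Signalizer.isPGroup_zpowers_involution hz).to_sup_of_normal_right'
      (CfsgLib.Signalizer.isPGroup_zpowers_involution hw2) (zpowers_le.2 (by
        refine mem_normalizer_iff_map_conj_eq.2 ?_
        rw [MonoidHom.map_zpowers]
        show zpowers (z * w * z⁻¹) = _
        rw [hg.eq, mul_inv_cancel_right]))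
  obtain ⟨R, hR⟩ := hQ.exists_le_sylow
  obtain ⟨c, hc⟩ := MulAction.exists_smul_eq Y R P
  have hmem : ∀ y ∈ zpowers z ⊔ zpowers w, c * y * c⁻¹ ∈ (P : Subgroup Y) := fun y hy => by
    rw [← hc, Sylow.coe_subgroup_smul]
    exact ⟨y, hR hy, rfl⟩
  have h1 := hweak c (hmem z (mem_sup_left (mem_zpowers z)))
  have h2 := hweak (c * g) (by
    rw [show c * g * z * (c * g)⁻¹ = c * w * c⁻¹ by rw [hw]; group]
    exact hmem w (mem_sup_right (mem_zpowers w)))
  exact (MulAut.conj c).injective ((show c * w * c⁻¹ = c * g * z * (c * g)⁻¹ by rw [hw]; group).trans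
    (h2.trans h1.symm))

variable {K : Type u} [Group K] [Finite K]

/-- A nonabelian simple group is not solvable and is perfect. -/
theorem simple_perfect [IsSimpleGroup K] (hna : ¬ IsMulCommutative K) :
    ¬ Group.IsSolvable K ∧ commutator K = ⊤ := by
  refine ⟨fun h => hna ⟨⟨fun a b => IsSimpleGroup.comm_iff_isSolvable.mpr h a b⟩⟩, ?_⟩
  rcases (inferInstance : (commutator K).Normal).eq_bot_or_eq_top with h | h
  · refine absurd ⟨⟨fun a b => ?_⟩⟩ hna
    refine commutatorElement_eq_one_iff_mul_comm.1 (mem_bot.1 (h ▸ ?_))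
    exact commutator_mem_commutator (mem_top a) (mem_top b)
  · exact h

/-- The core argument: `f` embeds the simple group as a normal subgroup with trivial centraliser, and `b` is a
2-element centralising the Sylow 2-subgroup and generating the quotient. -/
theorem mem_image_of_centralizes [IsSimpleGroup K] (hna : ¬ IsMulCommutative K) (P : Sylow 2 K)
    (hP : IsMulCommutative ↥(P : Subgroup K)) (f : K →* Y) (hfinj : Function.Injective f)
    (hIY : f.range.Normal) (b : Y) (hdec : ∀ y : Y, ∃ x : K, ∃ n : ℤ, y = f x * b ^ n)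
    (hb2 : IsPGroup 2 (zpowers b)) (hcb : ∀ x ∈ (P : Subgroup K), b * f x = f x * b)
    (hfree : ∀ y : Y, (∀ x : K, y * f x * y⁻¹ = f x) → y = 1) :
    ∃ x ∈ (P : Subgroup K), b = f x := by
  classical
  haveI : Fact (Nat.Prime 2) := ⟨Nat.prime_two⟩
  obtain ⟨hns, -⟩ := simple_perfect hna
  set Ph := (P : Subgroup K).map f ⊔ zpowers b with hPh
  have hPh2 : IsPGroup 2 Ph := (P.2.map f).to_sup_of_normal_left' hb2 (zpowers_le.2 (mem_normalizer_iff.2 fun y => by
    constructor
    · rintro ⟨x, hx, rfl⟩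
      exact ⟨x, hx, by rw [hcb x hx, mul_inv_cancel_right]⟩
    · rintro ⟨x, hx, e⟩
      exact ⟨x, hx, by rw [show y = b⁻¹ * (b * y * b⁻¹) * b by group, ← e, mul_assoc, ← hcb x hx, inv_mul_cancel_left]⟩))
  -- `Ph` is a Sylow subgroup
  obtain ⟨R, hR⟩ := hPh2.exists_le_sylow
  have hRI : (R : Subgroup Y).comap f = (P : Subgroup K) :=
    P.3 (R.2.comap_of_injective f hfinj) fun x hx => hR (mem_sup_left (mem_map_of_mem f hx))
  have hRP : (R : Subgroup Y) = Ph := by
    refine le_antisymm (fun r hr => ?_) hR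
    obtain ⟨x, n, rfl⟩ := hdec r
    have hbR : b ^ n ∈ (R : Subgroup Y) := zpow_mem (hR (mem_sup_right (mem_zpowers b))) n
    have hxR : x ∈ (R : Subgroup Y).comap f := by
      have := mul_mem hr (inv_mem hbR)
      rwa [mul_inv_cancel_right] at this
    rw [hRI] at hxR
    exact mul_mem (mem_sup_left (mem_map_of_mem f hxR)) (zpow_mem (mem_sup_right (mem_zpowers b)) n)
  have hRc : IsMulCommutative ↥(R : Subgroup Y) := by
    rw [hRP, hPh]
    haveI : IsMulCommutative ↥((P : Subgroup K).map f) :=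
      ⟨⟨by rintro ⟨_, x, hx, rfl⟩ ⟨_, y, hy, rfl⟩; exact Subtype.ext (by
            show f x * f y = f y * f x
            rw [← map_mul, ← map_mul]
            exact congrArg f (congrArg Subtype.val (hP.is_comm.comm ⟨x, hx⟩ ⟨y, hy⟩)))⟩⟩
    rw [sup_eq_closure]
    refine Subgroup.isMulCommutative_closure fun y hy z hz => ?_
    have key : ∀ x ∈ (P : Subgroup K), ∀ n : ℤ, f x * b ^ n = b ^ n * f x := fun x hx n =>
      (Commute.zpow_left (hcb x hx : Commute b (f x)) n).eq.symm
    rcases hy with ⟨x, hx, rfl⟩ | ⟨m, rfl⟩ <;> rcases hz with ⟨x', hx', rfl⟩ | ⟨m', rfl⟩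
    · rw [← map_mul, ← map_mul]
      exact congrArg f (congrArg Subtype.val (hP.is_comm.comm ⟨x, hx⟩ ⟨x', hx'⟩))
    · exact key x hx m'
    · exact (key x' hx' m).symm
    · show b ^ m * b ^ m' = b ^ m' * b ^ m
      rw [← zpow_add, ← zpow_add, add_comm]
  set N := normalizer ((R : Subgroup Y) : Set Y)
  obtain ⟨-, hsup⟩ := Transfer.commutator_normalizer_inf_sup R hRc
  -- the commutator subgroup is the inner part
  have hcomm : commutator Y ≤ f.range := by
    rw [_root_.commutator_def, Subgroup.commutator_le]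
    intro y _ z _
    haveI := hIY
    refine (QuotientGroup.eq_one_iff _).1 ?_
    obtain ⟨x, m, rfl⟩ := hdec y
    obtain ⟨x', m', rfl⟩ := hdec z
    have h1 : ∀ w : K, (QuotientGroup.mk' f.range) (f w) = 1 := fun w => (QuotientGroup.eq_one_iff _).2 ⟨w, rfl⟩
    show (QuotientGroup.mk' f.range) ⁅f x * b ^ m, f x' * b ^ m'⁆ = 1
    rw [map_commutatorElement, map_mul, map_mul, h1, h1, one_mul, one_mul, map_zpow, map_zpow,
      commutatorElement_eq_one_iff_mul_comm, ← zpow_add, ← zpow_add, add_comm]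
  suffices hC : (R : Subgroup Y) ⊓ centralizer (N : Set Y) = ⊥ by
    rw [hC, sup_bot_eq] at hsup
    have hb : b ∈ ⁅(R : Subgroup Y), N⁆ := hsup.symm ▸ hRP.symm ▸ mem_sup_right (mem_zpowers b)
    obtain ⟨x, hx⟩ := hcomm ((commutator_mono le_top le_top : ⁅(R : Subgroup Y), N⁆ ≤ _) hb)
    refine ⟨x, ?_, hx.symm⟩
    rw [← hRI, mem_comap, hx, hRP]
    exact mem_sup_right (mem_zpowers b)
  by_contra hC
  obtain ⟨w, hw, hw1⟩ := (bot_or_exists_ne_one _).resolve_left hC
  obtain ⟨k, hk⟩ := IsPGroup.iff_orderOf.1 R.2 ⟨w, hw.1⟩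
  rw [Subgroup.orderOf_mk] at hk
  rcases k with _ | k
  · exact hw1 (orderOf_eq_one_iff.1 (hk.trans (pow_zero 2)))
  set z := w ^ 2 ^ k
  have hz : orderOf z = 2 := by
    rw [orderOf_pow_of_dvd (pow_ne_zero _ two_ne_zero) (hk ▸ pow_dvd_pow 2 k.le_succ), hk, pow_succ,
      Nat.mul_div_cancel_left _ (pow_pos two_pos k)]
  have hzI := isolated_of_normalizer R hRc hz (pow_mem hw.1 _) fun n hn =>
    mem_centralizer_iff.1 (pow_mem hw.2 _) n hn
  have hO : (Cfsg.oddCore Y).comap f = ⊥ := by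
    refine ((Subgroup.Normal.comap (inferInstance : (Cfsg.oddCore Y).Normal) f).eq_bot_or_eq_top).resolve_right
      fun ht => hns ?_
    refine Cfsg.Agent.S0205.result ?_
    have h1 : (⊤ : Subgroup K).map f ≤ Cfsg.oddCore Y := by
      rintro _ ⟨x, -, rfl⟩
      exact (ht ▸ mem_top x : x ∈ (Cfsg.oddCore Y).comap f)
    have h2 := card_dvd_of_le h1
    rw [card_map_of_injective hfinj, card_top] at h2
    exact (CfsgLib.ZStar.odd_card_oddCore Y).of_dvd_nat h2
  have hzf : ∀ x : K, z * f x * z⁻¹ = f x := fun x => by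
    have h1 := CfsgLib.ZStar.mem_oddCore_of_isolated hzI (f x)
    obtain ⟨y, hy⟩ := hIY.conj_mem _ ⟨x, rfl⟩ z
    rw [← hy, ← map_inv, ← map_mul] at h1
    have h2 : y * x⁻¹ ∈ (⊥ : Subgroup K) := hO ▸ (h1 : y * x⁻¹ ∈ (Cfsg.oddCore Y).comap f)
    rw [← hy, mul_inv_eq_one.1 (mem_bot.1 h2)]
  rw [hfree z hzf, orderOf_one] at hz
  omega

/-- A 2-power automorphism fixing an abelian Sylow 2-subgroup pointwise is inner by one of its elements. -/
theorem aut_inner [IsSimpleGroup K] (hna : ¬ IsMulCommutative K) (P : Sylow 2 K)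
    (hP : IsMulCommutative ↥(P : Subgroup K)) (β : MulAut K) (hβ : ∃ k : ℕ, orderOf β = 2 ^ k)
    (hfix : ∀ x ∈ (P : Subgroup K), β x = x) : ∃ x ∈ (P : Subgroup K), β = MulAut.conj x := by
  classical
  haveI : Finite (MulAut K) := Finite.of_injective _ MulEquiv.toEquiv_injective
  have hιinj : Function.Injective (MulAut.conj : K →* MulAut K) := fun a b e => by
    have h : a⁻¹ * b ∈ center K := mem_center_iff.2 fun g => by
      have := congrArg (fun f : MulAut K => f g) e
      simp only [MulAut.conj_apply] at this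
      calc g * (a⁻¹ * b) = a⁻¹ * (a * g * a⁻¹) * b := by group
        _ = a⁻¹ * (b * g * b⁻¹) * b := by rw [this]
        _ = a⁻¹ * b * g := by group
    rcases (inferInstance : (center K).Normal).eq_bot_or_eq_top with hb | ht
    · exact inv_mul_eq_one.1 (mem_bot.1 (hb ▸ h))
    · exact absurd ⟨⟨fun x y => (mem_center_iff.1 (ht ▸ mem_top y) x)⟩⟩ hna
  have hconj : ∀ (γ : MulAut K) (x : K), γ * MulAut.conj x * γ⁻¹ = MulAut.conj (γ x) := fun γ x => by
    ext g
    simp
  have hIn : ((MulAut.conj : K →* MulAut K).range).Normal :=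
    ⟨by rintro _ ⟨x, rfl⟩ γ; exact ⟨γ x, (hconj γ x).symm⟩⟩
  set Y0 : Subgroup (MulAut K) := (MulAut.conj : K →* MulAut K).range ⊔ zpowers β with hY0
  obtain ⟨f, hf⟩ : ∃ f : K →* Y0, ∀ x, (f x : MulAut K) = MulAut.conj x :=
    ⟨(MulAut.conj : K →* MulAut K).codRestrict Y0 fun x => mem_sup_left ⟨x, rfl⟩, fun x => rfl⟩
  obtain ⟨b, hb⟩ : ∃ b : Y0, (b : MulAut K) = β := ⟨⟨β, mem_sup_right (mem_zpowers β)⟩, rfl⟩
  obtain ⟨x, hx, hbx⟩ := mem_image_of_centralizes hna P hP f
    (fun a c e => hιinj (by rw [← hf, ← hf, e]))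
    ⟨by rintro _ ⟨x, rfl⟩ g; exact ⟨(g : MulAut K) x, Subtype.ext (by
      rw [Subgroup.coe_mul, Subgroup.coe_mul, Subgroup.coe_inv, hf, hf, hconj])⟩⟩
    b (fun y => by
      have hy := y.2
      simp only [hY0] at hy
      rw [← SetLike.mem_coe, Subgroup.normal_mul] at hy
      obtain ⟨_, ⟨x, rfl⟩, _, ⟨n, rfl⟩, e⟩ := hy
      exact ⟨x, n, Subtype.ext (by rw [Subgroup.coe_mul, Subgroup.coe_zpow, hf, hb]; exact e.symm)⟩)
    (by
      obtain ⟨k, hk⟩ := hβ
      exact IsPGroup.of_card (n := k) (by rw [Nat.card_zpowers, ← Subgroup.orderOf_coe, hb, hk]))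
    (fun x hx => Subtype.ext (by
      rw [Subgroup.coe_mul, Subgroup.coe_mul, hb, hf]
      have := hconj β x
      rw [hfix x hx] at this
      exact mul_inv_eq_iff_eq_mul.1 this))
    (fun y hy => Subtype.ext (MulEquiv.ext fun x => hιinj (by
      have h := congrArg Subtype.val (hy x)
      rw [Subgroup.coe_mul, Subgroup.coe_mul, Subgroup.coe_inv, hf, hconj] at h
      exact h)))
  exact ⟨x, hx, by rw [← hb, hbx, hf]⟩

end CfsgLib.Walter.Sections
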