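import Cfsg.Agent.Lib.Recog.Walter.Sections.Odd
import Cfsg.Agent.Lib.LocalEvenB.SubnormalSylow
import Cfsg.Agent.Lib.Components.Subnormal

/-!
Owner: helper8. Walter, sections: the centraliser of an involution in a group of Janko–Ree type.

* `Loc t E N`: `C(t) = ⟨t⟩ × E` with a self-centralising normal `PSL(2, q)` `N` in `E`; `exists_loc`.
* `Loc.mem_N_of_two_power`, `Loc.mem_of_centralizes`, `Loc.oddCore_eq_bot`: consequences.
* `jr_sq`: the 2-elements have order at most two.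
-/

set_option autoImplicit false
set_option linter.style.haveILetI false
set_option linter.unusedSectionVars false

namespace CfsgLib.Walter.Sections

open Subgroup
open CfsgLib.AbelianPSL (PSLData)
open CfsgLib.AbelianSolvCent (AbSylow)
open CfsgLib.Signalizer (involution_sq involution_ne_one involution_inv orderOf_eq_two_of)

universe u

variable {K : Type u} [Group K] [Finite K]

/-- The data of the centraliser of an involution of a group of Janko–Ree type. -/
structure Loc (t : K) (E N : Subgroup K) : Prop where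
  ord : orderOf t = 2
  le : N ≤ E
  comm : ∀ e ∈ E, e * t = t * e
  nrm : E ≤ normalizer (N : Set K)
  data : PSLData ↥N
  simple : IsSimpleGroup ↥N
  not_mem : t ∉ E
  form : ∀ c ∈ centralizer ({t} : Set K), ∃ e ∈ E, c = e ∨ c = t * e
  cen : ∀ e ∈ E, (∀ y ∈ N, e * y = y * e) → e = 1

theorem exists_loc {t : K} (ht : orderOf t = 2) (h : JRCentralizer t) : ∃ E N : Subgroup K, Loc t E N := by
  obtain ⟨E, ⟨htC, hEC, hcomm, hinf, hsup⟩, F, iF, iT, h5, hq, N, hNn, ⟨e⟩, hcen⟩ := h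
  have hEcomm : ∀ x ∈ E, x * t = t * x := fun x hx => (hcomm t (mem_zpowers t) x hx).symm
  have hD : PSLData ↥N := (pslData_of_mod hq).of_equiv e
  have hs : IsSimpleGroup ↥N := IsOddType.isSimpleGroup ⟨F, iF, iT, h5, hq, ⟨e⟩⟩
  let f := N.equivMapOfInjective E.subtype E.subtype_injective
  have hnm : t ∉ E := fun hm => involution_ne_one ht (mem_bot.1 (hinf ▸ ⟨mem_zpowers t, hm⟩))
  refine ⟨E, N.map E.subtype, ht, map_subtype_le N, hEcomm, ?_, hD.of_equiv f.symm, ?_, hnm, ?_, ?_⟩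
  · intro g hg
    refine mem_normalizer_iff.2 fun y => ⟨?_, ?_⟩
    · rintro ⟨y, hy, rfl⟩
      exact ⟨⟨g, hg⟩ * y * ⟨g, hg⟩⁻¹, hNn.conj_mem y hy _, rfl⟩
    · rintro ⟨z, hz, hze⟩
      have hze' : (z : K) = g * y * g⁻¹ := hze
      refine ⟨⟨g, hg⟩⁻¹ * z * ⟨g, hg⟩, by simpa using hNn.conj_mem z hz ⟨g, hg⟩⁻¹, ?_⟩
      show g⁻¹ * (z : K) * g = y
      rw [hze']; group
  · haveI := hs
    haveI : Nontrivial ↥(N.map E.subtype) := f.toEquiv.symm.nontrivial
    exact IsSimpleGroup.isSimpleGroup_of_surjective f.toMonoidHom f.surjective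
  · intro c hc
    have hn : zpowers t ≤ normalizer (E : Set K) := zpowers_le.2 (mem_normalizer_iff.2 fun y => by
      have key : ∀ x ∈ E, t * x * t⁻¹ = x := fun x hx => by rw [← hEcomm x hx, mul_inv_cancel_right]
      refine ⟨fun hy => by rw [key y hy]; exact hy, fun hy => ?_⟩
      have h1 := key _ hy
      rwa [show y = t * y * t⁻¹ from mul_left_cancel (mul_right_cancel h1.symm)])
    rw [← hsup, CfsgLib.Core.mem_sup_iff_mul hn] at hc
    obtain ⟨a, ha, x, hx, rfl⟩ := hc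
    refine ⟨x, hx, ?_⟩
    obtain ⟨k, rfl⟩ := mem_zpowers_iff.1 ha
    rw [← zpow_mod_orderOf, ht]
    rcases Int.emod_two_eq_zero_or_one k with e' | e' <;> simp [e']
  · intro x hx hxN
    have h1 : (⟨x, hx⟩ : ↥E) ∈ centralizer (N : Set ↥E) := mem_centralizer_iff.2 fun y hy =>
      Subtype.ext (hxN y ⟨y, hy, rfl⟩).symm
    rw [hcen, mem_bot] at h1
    exact congrArg Subtype.val h1

theorem exists_loc_of_jr (h : IsJRType K) {t : K} (ht : orderOf t = 2) : ∃ E N : Subgroup K, Loc t E N :=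
  exists_loc ht (h.2.2.2 t ht)

namespace Loc

variable {t : K} {E N : Subgroup K} (h : Loc t E N)
include h

theorem le_C : E ≤ centralizer ({t} : Set K) := fun e he => mem_centralizer_singleton_iff.2 (h.comm e he)

theorem N_le_C : N ≤ centralizer ({t} : Set K) := h.le.trans h.le_C

theorem C_le_normalizer : centralizer ({t} : Set K) ≤ normalizer (N : Set K) := by
  intro c hc
  obtain ⟨e, he, rfl | rfl⟩ := h.form c hc
  · exact h.nrm he
  · refine mul_mem (mem_normalizer_iff.2 fun y => ?_) (h.nrm he)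
    have key : ∀ x ∈ N, t * x * t⁻¹ = x := fun x hx => by rw [← h.comm x (h.le hx), mul_inv_cancel_right]
    refine ⟨fun hy => by rw [key y hy]; exact hy, fun hy => ?_⟩
    have h1 := key _ hy
    rwa [show y = t * y * t⁻¹ from mul_left_cancel (mul_right_cancel h1.symm)]

/-- An element of `C(t)` centralising `N` is `1` or `t`. -/
theorem mem_of_centralizes {c : K} (hc : c ∈ centralizer ({t} : Set K)) (hN : ∀ y ∈ N, c * y = y * c) :
    c = 1 ∨ c = t := by
  obtain ⟨e, he, rfl | rfl⟩ := h.form c hc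
  · exact Or.inl (h.cen _ he hN)
  · refine Or.inr ?_
    rw [h.cen e he fun y hy => ?_, mul_one]
    have := hN y hy
    rw [mul_assoc, ← mul_assoc y t e, h.comm y (h.le hy), mul_assoc] at this
    exact mul_left_cancel this

theorem sq_of_mem_one_or {z : K} (hz : z = 1 ∨ z = t) : z * z = 1 := by
  rcases hz with rfl | rfl
  · exact one_mul 1
  · exact involution_sq h.ord

theorem mem_E_of_odd {x : K} (hx : x ∈ centralizer ({t} : Set K)) (ho : Odd (orderOf x)) : x ∈ E := by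
  obtain ⟨e, he, rfl | rfl⟩ := h.form x hx
  · exact he
  exfalso
  obtain ⟨m, hm⟩ := ho
  have hc : Commute t e := (h.comm e he).symm
  have h1 := pow_orderOf_eq_one (t * e)
  rw [hc.mul_pow, hm, pow_succ t, pow_mul, show t ^ 2 = 1 by rw [pow_two, involution_sq h.ord],
    one_pow, one_mul] at h1
  exact h.not_mem (eq_inv_of_mul_eq_one_left h1 ▸ E.inv_mem (E.pow_mem he _))

theorem not_comm_N : ¬ IsMulCommutative ↥N := not_comm h.data

/-- A 2-element of `E` lies in `N`. -/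
theorem mem_N_of_two_power (hA : AbSylow K) {e : K} (he : e ∈ E) (h2 : ∃ k : ℕ, orderOf e = 2 ^ k) :
    e ∈ N := by
  classical
  haveI : Fact (Nat.Prime 2) := ⟨Nat.prime_two⟩
  haveI := h.simple
  obtain ⟨k, hk⟩ := h2
  obtain ⟨R, hR⟩ := (IsPGroup.of_card (p := 2) (G := zpowers (⟨e, he⟩ : E)) (n := k)
    (by rw [Nat.card_zpowers, Subgroup.orderOf_mk, hk])).exists_le_sylow
  set N' : Subgroup ↥E := N.subgroupOf E
  haveI hN' : N'.Normal := (normal_subgroupOf_iff_le_normalizer h.le).2 h.nrm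
  have hi := CfsgLib.LocalEvenB.not_dvd_relIndex_inf_of_subnormal R hN'.isSubnormal
  rw [inf_relIndex_right] at hi
  -- the Sylow subgroup of `N` inside `R`
  set j : ↥N →* ↥E := inclusion h.le
  have hrange : j.range = N' := Subgroup.ext fun x => ⟨fun ⟨y, hy⟩ => hy ▸ y.2, fun hx => ⟨⟨x, hx⟩, rfl⟩⟩
  obtain ⟨P, hP⟩ := (R.2.comap_of_injective j (inclusion_injective h.le)).exists_le_sylow
  have hPR : (P : Subgroup ↥N) = (R : Subgroup ↥E).comap j := by
    refine (hP.antisymm ?_).symm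
    refine Subgroup.relIndex_eq_one.1 ?_
    obtain ⟨n, hn⟩ := IsPGroup.iff_card.1 P.2
    have h1 := Subgroup.relIndex_dvd_card ((R : Subgroup ↥E).comap j) (P : Subgroup ↥N)
    rw [hn] at h1
    obtain ⟨i, -, hi'⟩ := (Nat.dvd_prime_pow Nat.prime_two).1 h1
    rcases i with _ | i
    · simpa using hi'
    · have h2' : 2 ∣ ((R : Subgroup ↥E).comap j).relIndex (P : Subgroup ↥N) := ⟨2 ^ i, by rw [hi', pow_succ']⟩
      have h3 := h2'.trans (Subgroup.relIndex_dvd_index_of_le hP)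
      rw [index_comap, hrange] at h3
      exact absurd h3 hi
  set β : MulAut ↥N := MulDistribMulAction.toMulAut ↥(normalizer (N : Set K)) ↥N ⟨e, h.nrm he⟩
  have hβv : ∀ y : ↥N, ((β y : ↥N) : K) = e * (y : K) * e⁻¹ := fun y => rfl
  obtain ⟨p, hp, hβp⟩ := aut_inner h.not_comm_N P (sylow_comm_pair h.data P) β (by
    obtain ⟨i, -, hi'⟩ := (Nat.dvd_prime_pow Nat.prime_two).1
      ((orderOf_map_dvd (MulDistribMulAction.toMulAut ↥(normalizer (N : Set K)) ↥N) ⟨e, h.nrm he⟩).trans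
        (by rw [Subgroup.orderOf_mk, hk]))
    exact ⟨i, hi'⟩) (fun y hy => Subtype.ext (by
      rw [hPR] at hy
      rw [hβv]
      have := congrArg Subtype.val (congrArg Subtype.val
        ((CfsgLib.AbelianSolvCent.abSylow_subgroup hA E R).is_comm.comm ⟨⟨e, he⟩, hR (mem_zpowers _)⟩ ⟨j y, hy⟩))
      change e * (y : K) = (y : K) * e at this
      rw [this, mul_inv_cancel_right]))
  have h0 := h.cen ((p : K)⁻¹ * e) (mul_mem (inv_mem (h.le p.2)) he) fun y hy => ?_
  · rw [inv_mul_eq_one] at h0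
    exact h0 ▸ p.2
  · have h1 : e * y * e⁻¹ = (p : K) * y * (p : K)⁻¹ := by
      rw [show e * y * e⁻¹ = ((β ⟨y, hy⟩ : ↥N) : K) from (hβv ⟨y, hy⟩).symm, hβp]
      rfl
    calc (p : K)⁻¹ * e * y = (p : K)⁻¹ * (e * y * e⁻¹) * e := by group
      _ = y * ((p : K)⁻¹ * e) := by rw [h1]; group

/-- The centraliser has trivial odd core. -/
theorem oddCore_eq_bot : Cfsg.oddCore ↥(centralizer ({t} : Set K)) = ⊥ := by
  haveI := h.simple
  set C := centralizer ({t} : Set K)
  refine (eq_bot_iff_forall _).2 fun x hx => ?_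
  have hodd : Odd (orderOf (x : K)) := by
    rw [Subgroup.orderOf_coe]
    exact (CfsgLib.ZStar.odd_card_oddCore _).of_dvd_nat (Subgroup.orderOf_dvd_natCard _ hx)
  have hxE := h.mem_E_of_odd x.2 hodd
  haveI : (Cfsg.oddCore ↥C).Normal := inferInstance
  set M : Subgroup ↥N := (Cfsg.oddCore ↥C).comap (inclusion h.N_le_C)
  have hM : M = ⊥ := by
    refine ((inferInstance : M.Normal).eq_bot_or_eq_top).resolve_right fun ht => h.not_comm_N ?_
    have hle : N.subgroupOf C ≤ Cfsg.oddCore ↥C := fun y hy => (ht ▸ mem_top _ : (⟨y, hy⟩ : ↥N) ∈ M)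
    have h1 := card_dvd_of_le hle
    rw [Nat.card_congr (subgroupOfEquivOfLe h.N_le_C).toEquiv] at h1
    haveI : Group.IsSolvable ↥N := Cfsg.Agent.S0205.result ((CfsgLib.ZStar.odd_card_oddCore _).of_dvd_nat h1)
    exact ⟨⟨fun a b => IsSimpleGroup.comm_iff_isSolvable.mpr inferInstance a b⟩⟩
  refine Subtype.ext (h.cen x hxE fun y hy => ?_)
  have hxy : (x : K) * y * (x : K)⁻¹ * y⁻¹ ∈ N := mul_mem ((mem_normalizer_iff.1 (h.nrm hxE) y).1 hy) (inv_mem hy)
  have h2 : (⟨_, hxy⟩ : ↥N) ∈ M := by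
    show (⟨(x : K) * y * (x : K)⁻¹ * y⁻¹, _⟩ : ↥C) ∈ Cfsg.oddCore ↥C
    have h3 : x * (⟨y, h.N_le_C hy⟩ * x⁻¹ * ⟨y, h.N_le_C hy⟩⁻¹) ∈ Cfsg.oddCore ↥C :=
      mul_mem hx ((inferInstance : (Cfsg.oddCore ↥C).Normal).conj_mem _ (inv_mem hx) _)
    convert h3 using 1
    exact Subtype.ext (by simp [mul_assoc])
  rw [hM, mem_bot] at h2
  have h3 : (x : K) * y * (x : K)⁻¹ * y⁻¹ = 1 := congrArg Subtype.val h2
  rw [mul_inv_eq_one, mul_inv_eq_iff_eq_mul] at h3
  exact h3

end Loc

/-- The elements of a Sylow 2-subgroup have square one. -/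
theorem jr_sq (h : IsJRType K) (S : Sylow 2 K) {s : K} (hs : s ∈ (S : Subgroup K)) : s * s = 1 := by
  haveI : Fact (Nat.Prime 2) := ⟨Nat.prime_two⟩
  by_cases hne : (S : Subgroup K) = ⊥
  · rw [hne, mem_bot] at hs; rw [hs, one_mul]
  obtain ⟨t, htS, ht⟩ := CfsgLib.Signalizer.exists_involution_of_two_group S.2 hne
  obtain ⟨E, N, L⟩ := exists_loc_of_jr h ht
  have hct : s * t = t * s := congrArg Subtype.val ((h.2.1 S).is_comm.comm ⟨s, hs⟩ ⟨t, htS⟩)
  obtain ⟨e, he, hse⟩ := L.form s (mem_centralizer_singleton_iff.2 hct)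
  have heS : e ∈ (S : Subgroup K) := by
    rcases hse with rfl | rfl
    · exact hs
    · simpa using mul_mem (inv_mem htS) hs
  have he2 : ∃ k : ℕ, orderOf e = 2 ^ k := by
    obtain ⟨k, hk⟩ := IsPGroup.iff_orderOf.1 S.2 ⟨e, heS⟩
    exact ⟨k, by rw [← hk, Subgroup.orderOf_mk]⟩
  have heN := L.mem_N_of_two_power h.2.1 he he2
  obtain ⟨P, hP⟩ := (S.2.comap_of_injective N.subtype N.subtype_injective).exists_le_sylow
  have hsq : e * e = 1 := congrArg Subtype.val (sylow_sq L.data P (hP (show (⟨e, heN⟩ : ↥N) ∈ _ from heS)))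
  rcases hse with rfl | rfl
  · exact hsq
  · calc t * e * (t * e) = t * (e * t) * e := by group
      _ = t * t * (e * e) := by rw [L.comm e he]; group
      _ = 1 := by rw [hsq, involution_sq ht, one_mul]

end CfsgLib.Walter.Sections
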