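import Cfsg.Agent.Lib.Recog.Walter.Sections.AutInner
import Cfsg.Agent.Lib.Recog.Walter.Three.Residual
import Cfsg.Agent.Lib.Components.FStar
import Cfsg.Agent.Lib.Components.Char
import Cfsg.Agent.Lib.Core.SolvableStruct
import Cfsg.Agent.Lib.LocalEvenB.SubnormalSylow

/-!
Owner: helper8. Walter, sections: groups with abelian Sylow 2-subgroups and trivial odd core.

* `SecWalter X`: every simple nonabelian section of `X` is of Walter type; `secWalter_of_smaller`.
* components: `component_isSimple`, `component_type`, `sylow_le_normalizer_component`, `exists_projection`,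
  `components_inf_eq_bot`, `eq_one_of_mem_center_layer`.
* `fitting_eq`, `sylow_decomp` (`S = O_2 (S ∩ E)`), `pCore_inf_layer`, `odd_index` (`O_2 E` has odd index).
-/

set_option autoImplicit false
set_option linter.style.haveILetI false
set_option linter.unusedSectionVars false

namespace CfsgLib.Walter.Sections

open Subgroup
open CfsgLib.AbelianSolvCent (AbSylow)

universe u

/-- Every simple nonabelian section is of Walter type. -/
def SecWalter (X : Type u) [Group X] : Prop :=
  ∀ (H : Subgroup X) (K : Type u) [Group K] [Finite K] [IsSimpleGroup K] (f : ↥H →* K),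
    Function.Surjective f → ¬ IsMulCommutative K → IsWalterType K

variable {X : Type u} [Group X] [Finite X]

omit [Finite X] in
theorem sylow_comm (S : Sylow 2 X) (hS : IsMulCommutative ↥(S : Subgroup X)) {a b : X}
    (ha : a ∈ (S : Subgroup X)) (hb : b ∈ (S : Subgroup X)) : a * b = b * a :=
  congrArg Subtype.val (hS.is_comm.comm ⟨a, ha⟩ ⟨b, hb⟩)

theorem secWalter_of_smaller {G : Type u} [Group G] (hS : Smaller G) (hA : AbSylow X)
    (hlt : Nat.card X < Nat.card G) : SecWalter X := by
  intro H K _ _ _ f hf hna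
  exact hS K hna (CfsgLib.AbelianSolvCent.abSylow_of_surjective
    (CfsgLib.AbelianSolvCent.abSylow_subgroup hA H) f hf)
    ((Nat.card_le_card_of_surjective f hf).trans_lt ((card_le_card_group H).trans_lt hlt))

theorem secWalter_subgroup (hW : SecWalter X) (Y : Subgroup X) : SecWalter ↥Y := by
  intro H K _ _ _ f hf hna
  set e := H.equivMapOfInjective Y.subtype Y.subtype_injective
  exact hW (H.map Y.subtype) K (f.comp e.symm.toMonoidHom) (hf.comp e.symm.surjective) hna

theorem secWalter_of_surjective {Q : Type u} [Group Q] (hW : SecWalter X) (g : X →* Q)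
    (hg : Function.Surjective g) : SecWalter Q := by
  intro H K _ _ _ f hf hna
  exact hW (H.comap g) K (f.comp (g.subgroupComap H))
    (hf.comp (MonoidHom.subgroupComap_surjective_of_surjective g H hg)) hna

/-- A component has no nontrivial central element. -/
theorem center_component_eq_bot (hA : AbSylow X) (hO : Cfsg.oddCore X = ⊥) {K : Subgroup X}
    (hK : Cfsg.IsComponent K) : center ↥K = ⊥ := by
  haveI : Fact (Nat.Prime 2) := ⟨Nat.prime_two⟩
  by_contra hne
  haveI : Nontrivial ↥(center ↥K) := (nontrivial_iff_ne_bot _).2 hne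
  obtain ⟨p, hp, hpd⟩ := Nat.exists_prime_and_dvd (Nat.ne_of_gt (Finite.one_lt_card (α := ↥(center ↥K))))
  haveI := Fact.mk hp
  obtain ⟨⟨z, hzc⟩, hz⟩ := exists_prime_orderOf_dvd_card' p hpd
  rw [Subgroup.orderOf_mk] at hz
  by_cases hp2 : p = 2
  · subst hp2
    obtain ⟨P, hP⟩ := (CfsgLib.Signalizer.isPGroup_zpowers_involution hz).exists_le_sylow
    have hperf : commutator ↥K = ⊤ := by
      haveI := hK.2.1
      exact Group.IsPerfect.commutator_eq_top
    exact Three.not_central_of_perfect hperf P (CfsgLib.AbelianSolvCent.abSylow_subgroup hA K P) hz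
      (hP (mem_zpowers z)) hzc
  · have hn : (zpowers z).Normal := ⟨fun x hx g => by
      obtain ⟨n, rfl⟩ := mem_zpowers_iff.1 hx
      rw [mem_center_iff.1 (zpow_mem hzc n) g, mul_inv_cancel_right]
      exact zpow_mem (mem_zpowers z) n⟩
    have hle : zpowers z ≤ Cfsg.oddCore ↥K := CfsgLib.ZStar.le_oddCore hn (by
      rw [Nat.card_zpowers, hz]
      exact hp.odd_of_ne_two hp2)
    have h1 : (z : X) ∈ Cfsg.oddCore X :=
      ((CfsgLib.Components.pPrimeCore_subnormal 2 hK.1).le (mem_map_of_mem _ (hle (mem_zpowers z)))).1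
    rw [hO, mem_bot] at h1
    rw [show z = 1 from Subtype.ext h1, orderOf_one] at hz
    exact hp.one_lt.ne hz

/-- The components are simple. -/
theorem component_isSimple (hA : AbSylow X) (hO : Cfsg.oddCore X = ⊥) {K : Subgroup X}
    (hK : Cfsg.IsComponent K) : IsSimpleGroup ↥K := by
  haveI := hK.2.2
  haveI : Nontrivial ↥K := (nontrivial_iff_ne_bot K).2 (CfsgLib.Components.IsComponent.ne_bot hK)
  exact IsSimpleGroup.isSimpleGroup_of_surjective
    ((QuotientGroup.quotientMulEquivOfEq (center_component_eq_bot hA hO hK)).trans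
      QuotientGroup.quotientBot).toMonoidHom (MulEquiv.surjective _)

theorem component_not_comm {K : Subgroup X} (hK : Cfsg.IsComponent K) : ¬ IsMulCommutative ↥K := fun h =>
  CfsgLib.Components.IsComponent.not_isSolvable hK (Group.isSolvable_of_comm h.is_comm.comm)

/-- The components are of Walter type. -/
theorem component_type (hA : AbSylow X) (hO : Cfsg.oddCore X = ⊥) (hW : SecWalter X) {K : Subgroup X}
    (hK : Cfsg.IsComponent K) : IsWalterType ↥K :=
  haveI := component_isSimple hA hO hK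
  hW K ↥K (MonoidHom.id _) Function.surjective_id (component_not_comm hK)

/-- `S ∩ K` is nontrivial. -/
theorem inf_component_ne_bot (S : Sylow 2 X) {K : Subgroup X} (hK : Cfsg.IsComponent K) :
    (S : Subgroup X) ⊓ K ≠ ⊥ := by
  intro h
  haveI : Fact (Nat.Prime 2) := ⟨Nat.prime_two⟩
  have h1 := CfsgLib.LocalEvenB.not_dvd_relIndex_inf_of_subnormal S hK.1
  rw [h, relIndex_bot_left] at h1
  exact CfsgLib.Components.IsComponent.not_isSolvable hK
    (Cfsg.Agent.S0205.result (Nat.not_even_iff_odd.1 fun he => h1 (even_iff_two_dvd.1 he)))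

/-- An element of two distinct components is trivial. -/
theorem eq_one_of_mem_components (hA : AbSylow X) (hO : Cfsg.oddCore X = ⊥) {K L : Subgroup X}
    (hK : Cfsg.IsComponent K) (hL : Cfsg.IsComponent L) (hne : K ≠ L) {x : X} (hxK : x ∈ K) (hxL : x ∈ L) :
    x = 1 := by
  have hc := commutator_eq_bot_iff_le_centralizer.1 (CfsgLib.Components.components_commute hK hL hne)
  have : (⟨x, hxK⟩ : ↥K) ∈ center ↥K := mem_center_iff.2 fun g =>
    Subtype.ext (mem_centralizer_iff.1 (hc g.2) x hxL).symm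
  rw [center_component_eq_bot hA hO hK, mem_bot] at this
  exact congrArg Subtype.val this

/-- A Sylow 2-subgroup normalises every component. -/
theorem sylow_le_normalizer_component (hA : AbSylow X) (hO : Cfsg.oddCore X = ⊥) (S : Sylow 2 X)
    {K : Subgroup X} (hK : Cfsg.IsComponent K) : (S : Subgroup X) ≤ normalizer (K : Set X) := by
  intro s hs
  refine mem_normalizer_iff_map_conj_eq.2 ?_
  by_contra hne
  obtain ⟨x, ⟨hxS, hxK⟩, hx1⟩ := (bot_or_exists_ne_one _).resolve_left (inf_component_ne_bot S hK)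
  refine hx1 (eq_one_of_mem_components hA hO hK
    (CfsgLib.Components.isComponent_map_equiv (MulAut.conj s) hK) (Ne.symm hne) hxK ⟨x, hxK, ?_⟩)
  show s * x * s⁻¹ = x
  rw [sylow_comm S (hA S) hs hxS, mul_inv_cancel_right]

/-- Every element of a Sylow 2-subgroup induces on a component the inner automorphism of an element of
`S ∩ K`. -/
theorem exists_projection (hA : AbSylow X) (hO : Cfsg.oddCore X = ⊥) (S : Sylow 2 X) {K : Subgroup X}
    (hK : Cfsg.IsComponent K) {s : X} (hs : s ∈ (S : Subgroup X)) :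
    ∃ x ∈ (S : Subgroup X) ⊓ K, ∀ k ∈ K, s * k * s⁻¹ = x * k * x⁻¹ := by
  classical
  haveI : Fact (Nat.Prime 2) := ⟨Nat.prime_two⟩
  haveI := component_isSimple hA hO hK
  have hN := sylow_le_normalizer_component hA hO S hK
  have hcomp : IsPGroup 2 (((S : Subgroup X).subgroupOf K)) :=
    S.2.comap_of_injective K.subtype K.subtype_injective
  obtain ⟨P, hP⟩ := hcomp.exists_le_sylow
  have hPS : (P : Subgroup ↥K) = (S : Subgroup X).subgroupOf K := by
    refine (hP.antisymm ?_).symm
    have hi : ¬ 2 ∣ ((S : Subgroup X).subgroupOf K).index := by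
      have := CfsgLib.LocalEvenB.not_dvd_relIndex_inf_of_subnormal S hK.1
      rwa [inf_relIndex_right] at this
    exact (Subgroup.relIndex_eq_one.1 (by
      obtain ⟨k, hk⟩ := (IsPGroup.iff_card.1 P.2)
      have h1 := (Subgroup.relIndex_dvd_card ((S : Subgroup X).subgroupOf K) (P : Subgroup ↥K))
      rw [hk] at h1
      obtain ⟨j, -, hj⟩ := (Nat.dvd_prime_pow Nat.prime_two).1 h1
      rcases j with _ | j
      · simpa using hj
      · refine absurd (dvd_trans ⟨2 ^ j, ?_⟩ (Subgroup.relIndex_dvd_index_of_le hP)) hi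
        rw [hj, pow_succ']))
  set β : MulAut ↥K := MulDistribMulAction.toMulAut ↥(normalizer (K : Set X)) ↥K ⟨s, hN hs⟩ with hβ
  have hβv : ∀ k : ↥K, ((β k : ↥K) : X) = s * (k : X) * s⁻¹ := fun k => rfl
  obtain ⟨x, hx, hβx⟩ := aut_inner (component_not_comm hK) P
    (CfsgLib.AbelianSolvCent.abSylow_subgroup hA K P) β (by
      obtain ⟨k, hk⟩ := IsPGroup.iff_orderOf.1 S.2 ⟨s, hs⟩
      rw [Subgroup.orderOf_mk] at hk
      obtain ⟨j, -, hj⟩ := (Nat.dvd_prime_pow Nat.prime_two).1
        ((orderOf_map_dvd (MulDistribMulAction.toMulAut ↥(normalizer (K : Set X)) ↥K) ⟨s, hN hs⟩).trans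
          (by rw [Subgroup.orderOf_mk, hk]))
      exact ⟨j, hj⟩)
    (fun y hy => Subtype.ext (by
      rw [hPS] at hy
      rw [hβv, sylow_comm S (hA S) hs (show (y : X) ∈ (S : Subgroup X) from hy), mul_inv_cancel_right]))
  rw [hPS] at hx
  exact ⟨x, ⟨hx, x.2⟩, fun k hk => by
    rw [show s * k * s⁻¹ = ((β ⟨k, hk⟩ : ↥K) : X) from (hβv ⟨k, hk⟩).symm, hβx]
    rfl⟩

/-- The Fitting subgroup is `O_2`. -/
theorem fitting_eq (hO : Cfsg.oddCore X = ⊥) : Cfsg.fittingSubgroup X = Cfsg.pCore 2 X :=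
  haveI : Fact (Nat.Prime 2) := ⟨Nat.prime_two⟩
  CfsgLib.Core.fittingSubgroup_eq_pCore_of_pPrimeCore_eq_bot hO

/-- A nontrivial element of the layer does not centralise the layer. -/
theorem eq_one_of_mem_center_layer (hA : AbSylow X) (hO : Cfsg.oddCore X = ⊥) {z : X}
    (hz : z ∈ Cfsg.layer X) (hc : ∀ e ∈ Cfsg.layer X, z * e = e * z) : z = 1 := by
  haveI : Fact (Nat.Prime 2) := ⟨Nat.prime_two⟩
  have hzc : (⟨z, hz⟩ : ↥(Cfsg.layer X)) ∈ center ↥(Cfsg.layer X) :=
    mem_center_iff.2 fun g => Subtype.ext (hc g g.2).symm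
  suffices h : center ↥(Cfsg.layer X) = ⊥ by
    rw [h, mem_bot] at hzc
    exact congrArg Subtype.val hzc
  by_contra hne
  haveI : Nontrivial ↥(center ↥(Cfsg.layer X)) := (nontrivial_iff_ne_bot _).2 hne
  obtain ⟨p, hp, hpd⟩ :=
    Nat.exists_prime_and_dvd (Nat.ne_of_gt (Finite.one_lt_card (α := ↥(center ↥(Cfsg.layer X)))))
  haveI := Fact.mk hp
  obtain ⟨⟨w, hwc⟩, hw⟩ := exists_prime_orderOf_dvd_card' p hpd
  rw [Subgroup.orderOf_mk] at hw
  have hperf : commutator ↥(Cfsg.layer X) = ⊤ := by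
    apply map_injective (Cfsg.layer X).subtype_injective
    rw [_root_.commutator_def, Subgroup.map_commutator, ← MonoidHom.range_eq_map, Subgroup.range_subtype,
      CfsgLib.Components.layer_perfect]
  by_cases hp2 : p = 2
  · subst hp2
    obtain ⟨P, hP⟩ := (CfsgLib.Signalizer.isPGroup_zpowers_involution hw).exists_le_sylow
    exact Three.not_central_of_perfect hperf P (CfsgLib.AbelianSolvCent.abSylow_subgroup hA _ P) hw
      (hP (mem_zpowers w)) hwc
  · have hn : (zpowers w).Normal := ⟨fun x hx g => by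
      obtain ⟨n, rfl⟩ := mem_zpowers_iff.1 hx
      rw [mem_center_iff.1 (zpow_mem hwc n) g, mul_inv_cancel_right]
      exact zpow_mem (mem_zpowers w) n⟩
    have hle : zpowers w ≤ Cfsg.oddCore ↥(Cfsg.layer X) := CfsgLib.ZStar.le_oddCore hn (by
      rw [Nat.card_zpowers, hw]
      exact hp.odd_of_ne_two hp2)
    have h1 : (w : X) ∈ Cfsg.oddCore X :=
      ((CfsgLib.Components.pPrimeCore_subnormal 2 CfsgLib.Components.layer_normal.isSubnormal).le
        (mem_map_of_mem _ (hle (mem_zpowers w)))).1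
    rw [hO, mem_bot] at h1
    rw [show w = 1 from Subtype.ext h1, orderOf_one] at hw
    exact hp.one_lt.ne hw

/-- `O_2` meets the layer trivially. -/
theorem pCore_inf_layer (hA : AbSylow X) (hO : Cfsg.oddCore X = ⊥) :
    Cfsg.pCore 2 X ⊓ Cfsg.layer X = ⊥ := by
  refine (eq_bot_iff_forall _).2 fun z hz => eq_one_of_mem_center_layer hA hO hz.2 fun e he => ?_
  have h := commutator_eq_bot_iff_le_centralizer.1 (CfsgLib.Components.layer_commutes_fitting (G := X)) he
  exact mem_centralizer_iff.1 h z ((fitting_eq hO).symm ▸ hz.1)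

/-- An element of `S` centralising the layer lies in `O_2`. -/
theorem mem_pCore_of_centralizes_layer (hA : AbSylow X) (hO : Cfsg.oddCore X = ⊥) (S : Sylow 2 X) {t : X}
    (ht : t ∈ (S : Subgroup X)) (hc : ∀ e ∈ Cfsg.layer X, t * e = e * t) : t ∈ Cfsg.pCore 2 X := by
  haveI : Fact (Nat.Prime 2) := ⟨Nat.prime_two⟩
  haveI := CfsgLib.Components.gFitting_normal (G := X)
  set C := centralizer (Cfsg.generalizedFittingSubgroup X : Set X)
  have hCle : C ≤ Cfsg.generalizedFittingSubgroup X := CfsgLib.Components.centralizer_gFitting_le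
  have hCn : C.Normal := inferInstance
  have hCf : C ≤ Cfsg.fittingSubgroup X := by
    haveI : IsMulCommutative ↥C := ⟨⟨fun a b => Subtype.ext
      (mem_centralizer_iff.1 b.2 (a : X) (hCle a.2))⟩⟩
    letI : CommGroup ↥C := { (inferInstance : Group ↥C) with mul_comm := fun a b => mul_comm' a b }
    exact le_sSup ⟨hCn, inferInstance⟩
  rw [← fitting_eq hO]
  refine hCf (mem_centralizer_iff.2 fun y hy => ?_)
  have hle : Cfsg.generalizedFittingSubgroup X ≤ centralizer ({t} : Set X) := sup_le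
    (fun e he => mem_centralizer_singleton_iff.2 (hc e he).symm)
    (fun r hr => mem_centralizer_singleton_iff.2 (sylow_comm S (hA S)
      (CfsgLib.Core.pCore_le_sylow S ((fitting_eq hO) ▸ hr)) ht))
  exact mem_centralizer_singleton_iff.1 (hle hy)

/-- Every element of `S` is the product of one of `O_2` and one of `S ∩ E`. -/
theorem sylow_decomp (hA : AbSylow X) (hO : Cfsg.oddCore X = ⊥) (S : Sylow 2 X) {s : X}
    (hs : s ∈ (S : Subgroup X)) :
    ∃ t ∈ Cfsg.pCore 2 X, ∃ y ∈ (S : Subgroup X) ⊓ Cfsg.layer X, s = t * y := by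
  classical
  suffices h : ∀ c : Finset {K : Subgroup X // Cfsg.IsComponent K},
      ∃ y ∈ (S : Subgroup X) ⊓ Cfsg.layer X, ∀ K ∈ c, ∀ k ∈ (K : Subgroup X), s * y⁻¹ * k = k * (s * y⁻¹) by
    haveI := Fintype.ofFinite {K : Subgroup X // Cfsg.IsComponent K}
    obtain ⟨y, hy, hc⟩ := h Finset.univ
    refine ⟨s * y⁻¹, mem_pCore_of_centralizes_layer hA hO S (mul_mem hs (inv_mem hy.1)) ?_, y, hy,
      (inv_mul_cancel_right s y).symm⟩
    have hle : Cfsg.layer X ≤ centralizer ({s * y⁻¹} : Set X) := CfsgLib.Components.layer_le_iff.mpr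
      fun K hK k hk => mem_centralizer_singleton_iff.2 (hc ⟨K, hK⟩ (Finset.mem_univ _) k hk).symm
    exact fun e he => (mem_centralizer_singleton_iff.1 (hle he)).symm
  intro c
  induction c using Finset.induction_on with
  | empty => exact ⟨1, one_mem _, fun K hK => absurd hK (Finset.notMem_empty K)⟩
  | @insert L c hL ih =>
    obtain ⟨y, hy, hc⟩ := ih
    obtain ⟨x, hx, hxk⟩ := exists_projection hA hO S L.2 (mul_mem hs (inv_mem hy.1))
    refine ⟨x * y, mul_mem ⟨hx.1, CfsgLib.Components.le_layer L.2 hx.2⟩ hy, fun K hK k hk => ?_⟩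
    have hSc : x * y = y * x := sylow_comm S (hA S) hx.1 hy.1
    set t := s * y⁻¹ with ht
    have htx : t * x = x * t := sylow_comm S (hA S) (mul_mem hs (inv_mem hy.1)) hx.1
    have heq : s * (x * y)⁻¹ = x⁻¹ * t := by
      rw [hSc, mul_inv_rev, ← mul_assoc s, eq_inv_mul_iff_mul_eq, ht]
      calc x * (s * x⁻¹ * y⁻¹) = x * (s * y⁻¹ * x⁻¹) := by
            rw [mul_assoc s, ← mul_inv_rev, ← hSc, mul_inv_rev, mul_assoc s]
        _ = x * t * x⁻¹ := by rw [ht]; group
        _ = t := by rw [← htx, mul_inv_cancel_right]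
        _ = s * y⁻¹ := rfl
    rw [heq]
    rcases Finset.mem_insert.1 hK with rfl | hKc
    · have h1 : t * k = x * k * x⁻¹ * t := by rw [← hxk k hk, inv_mul_cancel_right]
      calc x⁻¹ * t * k = x⁻¹ * (t * k) := mul_assoc _ _ _
        _ = x⁻¹ * (x * k * x⁻¹ * t) := by rw [h1]
        _ = k * (x⁻¹ * t) := by group
    · have hKL : (K : Subgroup X) ≠ (L : Subgroup X) := fun e => hL (Subtype.ext e ▸ hKc)
      have hxk' : k * x = x * k := mem_centralizer_iff.1
        (commutator_eq_bot_iff_le_centralizer.1 (CfsgLib.Components.components_commute L.2 K.2 hKL.symm) hx.2)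
        k hk
      calc x⁻¹ * t * k = x⁻¹ * (t * k) := mul_assoc _ _ _
        _ = x⁻¹ * k * t := by rw [hc K hKc k hk, mul_assoc]
        _ = k * (x⁻¹ * t) := by rw [← (Commute.inv_right (hxk' : Commute k x)).eq, mul_assoc]

/-- A Sylow 2-subgroup lies in `O_2 E`. -/
theorem sylow_le (hA : AbSylow X) (hO : Cfsg.oddCore X = ⊥) (S : Sylow 2 X) :
    (S : Subgroup X) ≤ Cfsg.pCore 2 X ⊔ Cfsg.layer X := fun s hs => by
  obtain ⟨t, ht, y, hy, rfl⟩ := sylow_decomp hA hO S hs
  exact mul_mem (mem_sup_left ht) (mem_sup_right hy.2)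

/-- `O_2 E` has odd index. -/
theorem odd_index (hA : AbSylow X) (hO : Cfsg.oddCore X = ⊥) :
    Odd (Cfsg.pCore 2 X ⊔ Cfsg.layer X).index := by
  haveI : Fact (Nat.Prime 2) := ⟨Nat.prime_two⟩
  obtain ⟨S⟩ := (inferInstance : Nonempty (Sylow 2 X))
  exact (Nat.not_even_iff_odd.1 fun he => S.not_dvd_index (even_iff_two_dvd.1 he)).of_dvd_nat
    (Subgroup.index_dvd_of_le (sylow_le hA hO S))

end CfsgLib.Walter.Sections
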