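import Cfsg.Agent.Lib.Recog.Walter.Sections.Shape
import Cfsg.Agent.Lib.Recog.Walter.Sections.Two
import Cfsg.Agent.Lib.Recog.Walter.Sections.JR

/-!
Owner: helper8. Walter, sections: odd groups of automorphisms and the normaliser of a Sylow 2-subgroup.

* `eq_one_of_centralizes`, `odd_le_centralizer`: unified per-type facts.
* `aut_fixes`, `aut_eq_bot`, `aut_torus`: an odd group of automorphisms normalised by `C(v)`.
* `fixes_normalizer_of_sylow`: in odd type an odd automorphism fixing a Sylow 2-subgroup fixes its normaliser.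
* `exists_normalizer_component`: fusion in `S ∩ K` by elements of `N(S) ∩ K`.
-/

set_option autoImplicit false
set_option linter.style.haveILetI false
set_option linter.unusedSectionVars false

namespace CfsgLib.Walter.Sections

open Subgroup
open CfsgLib.AbelianSolvCent (AbSylow)
open CfsgLib.Signalizer (orderOf_eq_two_of involution_sq involution_inv)

universe u

variable {K : Type u} [Group K] [Finite K]

theorem _root_.CfsgLib.Walter.IsWalterType.isSimpleGroup (h : IsWalterType K) : IsSimpleGroup K := by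
  rcases h with h | h | h
  exacts [h.isSimpleGroup, h.isSimpleGroup, h.1]

theorem _root_.CfsgLib.Walter.IsWalterType.isConj (h : IsWalterType K) {v w : K} (hv : orderOf v = 2)
    (hw : orderOf w = 2) : IsConj v w := by
  rcases h with h | h | h
  exacts [two_isConj h hv hw, h.pslData.conj v w hv hw, jr_isConj h hv hw]

/-- An automorphism of odd order fixing the centraliser of an involution is trivial. -/
theorem eq_one_of_centralizes (h : IsWalterType K) {v : K} (hv : orderOf v = 2) (α : MulAut K)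
    (hα : Odd (orderOf α)) (hfix : ∀ c ∈ centralizer ({v} : Set K), α c = c) : α = 1 := by
  rcases h with h | h | h
  · exact two_eq_one_of_fixes h hv α hα hfix
  · haveI := h.isSimpleGroup
    exact eq_one_of_fixes h.pslData hv α hα hfix
  · exact jr_eq_one_of_fixes h hv α hα hfix

/-- An odd subgroup normalised by `C(v)` centralises `v`. -/
theorem odd_le_centralizer (h : IsWalterType K) {v : K} (hv : orderOf v = 2) {D : Subgroup K}
    (hD : Odd (Nat.card D)) (hn : centralizer ({v} : Set K) ≤ normalizer (D : Set K)) :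
    D ≤ centralizer ({v} : Set K) := by
  rcases h with h | h | h
  · rw [two_eq_bot h hv hD hn]; exact bot_le
  · exact centralises h.pslData hv hD hn
  · rw [jr_eq_bot h hv hD hn]; exact bot_le

theorem conj_conj (γ : MulAut K) (x : K) : γ * MulAut.conj x * γ⁻¹ = MulAut.conj (γ x) := by
  ext g
  simp

theorem eq_one_of_conj_eq_one [IsSimpleGroup K] (hna : ¬ IsMulCommutative K) {x : K}
    (hx : (MulAut.conj x : MulAut K) = 1) : x = 1 := by
  have h : x ∈ center K := mem_center_iff.2 fun g => by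
    have := congrArg (fun f : MulAut K => f g) hx
    simp only [MulAut.conj_apply, MulAut.one_apply] at this
    exact (mul_inv_eq_iff_eq_mul.1 this).symm
  rcases (inferInstance : (center K).Normal).eq_bot_or_eq_top with hb | ht
  · exact mem_bot.1 (hb ▸ h)
  · exact absurd ⟨⟨fun x y => (mem_center_iff.1 (ht ▸ mem_top y) x)⟩⟩ hna

/-- The inner part of an odd group of automorphisms normalised by `C(v)`. -/
theorem inner_part (h : IsWalterType K) (hna : ¬ IsMulCommutative K) {v : K} (hv : orderOf v = 2)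
    {D : Subgroup (MulAut K)} (hD : Odd (Nat.card D))
    (hn : ∀ c ∈ centralizer ({v} : Set K), MulAut.conj c ∈ normalizer (D : Set (MulAut K))) :
    Odd (Nat.card (D.comap (MulAut.conj : K →* MulAut K))) ∧
      centralizer ({v} : Set K) ≤ normalizer (D.comap (MulAut.conj : K →* MulAut K) : Set K) ∧
      D.comap (MulAut.conj : K →* MulAut K) ≤ centralizer ({v} : Set K) := by
  haveI := h.isSimpleGroup
  haveI : Finite (MulAut K) := Finite.of_injective _ MulEquiv.toEquiv_injective
  set φ : K →* MulAut K := MulAut.conj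
  have hinj : Function.Injective φ := (injective_iff_map_eq_one _).2 fun x hx => eq_one_of_conj_eq_one hna hx
  have h1 : Odd (Nat.card (D.comap φ)) := hD.of_dvd_nat (by
    rw [← card_map_of_injective (K := D.comap φ) hinj]
    exact card_dvd_of_le (map_comap_le _ _))
  have h2 : centralizer ({v} : Set K) ≤ normalizer (D.comap φ : Set K) := fun c hc =>
    mem_normalizer_iff.2 fun y => by
      show φ y ∈ D ↔ φ (c * y * c⁻¹) ∈ D
      rw [map_mul, map_mul, map_inv]
      exact mem_normalizer_iff.1 (hn c hc) (φ y)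
  exact ⟨h1, h2, odd_le_centralizer h hv h1 h2⟩

/-- Every element of an odd group of automorphisms normalised by `C(v)` fixes `v`. -/
theorem aut_fixes (h : IsWalterType K) (hna : ¬ IsMulCommutative K) {v : K} (hv : orderOf v = 2)
    {D : Subgroup (MulAut K)} (hD : Odd (Nat.card D))
    (hn : ∀ c ∈ centralizer ({v} : Set K), MulAut.conj c ∈ normalizer (D : Set (MulAut K)))
    {d : MulAut K} (hd : d ∈ D) : d v = v := by
  obtain ⟨h1, -, h3⟩ := inner_part h hna hv hD hn
  have hy : d v * v⁻¹ ∈ D.comap (MulAut.conj : K →* MulAut K) := by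
    show MulAut.conj (d v * v⁻¹) ∈ D
    rw [map_mul, map_inv, ← conj_conj,
      show d * MulAut.conj v * d⁻¹ * (MulAut.conj v)⁻¹ = d * (MulAut.conj v * d⁻¹ * (MulAut.conj v)⁻¹) by group]
    exact mul_mem hd ((mem_normalizer_iff.1 (hn v (mem_centralizer_singleton_iff.2 rfl)) _).1 (inv_mem hd))
  set y := d v * v⁻¹ with hy'
  have hc : y * v = v * y := mem_centralizer_singleton_iff.1 (h3 hy)
  have hsq : y ^ 2 = 1 := by
    have h2 : d v * d v = 1 := by rw [← map_mul, involution_sq hv, map_one]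
    have e : d v = y * v := by rw [hy', inv_mul_cancel_right]
    rw [e] at h2
    calc y ^ 2 = y * y * (v * v) := by rw [involution_sq hv, mul_one, pow_two]
      _ = y * (y * v) * v := by group
      _ = y * (v * y) * v := by rw [hc]
      _ = y * v * (y * v) := by group
      _ = 1 := h2
  exact mul_inv_eq_one.1
    (CfsgLib.ZStar.eq_one_of_odd_of_sq (h1.of_dvd_nat (Subgroup.orderOf_dvd_natCard _ hy)) hsq)

/-- For `c ∈ C(v)`, `d(c) c⁻¹` lies in the inner part. -/
theorem aut_commutator (h : IsWalterType K) (hna : ¬ IsMulCommutative K) {v : K} (hv : orderOf v = 2)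
    {D : Subgroup (MulAut K)} (hD : Odd (Nat.card D))
    (hn : ∀ c ∈ centralizer ({v} : Set K), MulAut.conj c ∈ normalizer (D : Set (MulAut K)))
    {d : MulAut K} (hd : d ∈ D) {c : K} (hc : c ∈ centralizer ({v} : Set K)) :
    d c * c⁻¹ ∈ centralizer ({v} : Set K) ∧ MulAut.conj (d c * c⁻¹) ∈ D := by
  obtain ⟨-, -, h3⟩ := inner_part h hna hv hD hn
  have hy : MulAut.conj (d c * c⁻¹) ∈ D := by
    rw [map_mul, map_inv, ← conj_conj,
      show d * MulAut.conj c * d⁻¹ * (MulAut.conj c)⁻¹ = d * (MulAut.conj c * d⁻¹ * (MulAut.conj c)⁻¹) by group]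
    exact mul_mem hd ((mem_normalizer_iff.1 (hn c hc) _).1 (inv_mem hd))
  exact ⟨h3 (mem_comap.2 hy), hy⟩

/-- With trivial `O(C(v))` an odd group of automorphisms normalised by `C(v)` is trivial. -/
theorem aut_eq_bot (h : IsWalterType K) (hna : ¬ IsMulCommutative K) {v : K} (hv : orderOf v = 2)
    (hcore : Cfsg.oddCore ↥(centralizer ({v} : Set K)) = ⊥) {D : Subgroup (MulAut K)}
    (hD : Odd (Nat.card D))
    (hn : ∀ c ∈ centralizer ({v} : Set K), MulAut.conj c ∈ normalizer (D : Set (MulAut K))) : D = ⊥ := by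
  haveI : Finite (MulAut K) := Finite.of_injective _ MulEquiv.toEquiv_injective
  obtain ⟨h1, h2, h3⟩ := inner_part h hna hv hD hn
  set C := centralizer ({v} : Set K)
  set DK := D.comap (MulAut.conj : K →* MulAut K)
  have hM : (DK.subgroupOf C).Normal := (normal_subgroupOf_iff_le_normalizer h3).2 h2
  have hbot : DK.subgroupOf C = ⊥ := le_bot_iff.1 (hcore ▸ CfsgLib.ZStar.le_oddCore hM
    (by rw [Nat.card_congr (subgroupOfEquivOfLe h3).toEquiv]; exact h1))
  refine (eq_bot_iff_forall _).2 fun d hd => eq_one_of_centralizes h hv d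
    (hD.of_dvd_nat (D.orderOf_dvd_natCard hd)) fun c hc => ?_
  obtain ⟨hy, hyD⟩ := aut_commutator h hna hv hD hn hd hc
  have h4 : (⟨d c * c⁻¹, hy⟩ : ↥C) ∈ DK.subgroupOf C := hyD
  rw [hbot, mem_bot] at h4
  exact mul_inv_eq_one.1 (congrArg Subtype.val h4)

/-- An element of an odd group of automorphisms normalised by `C(v)` is, up to an inner element of that group
from `C(v)`, fixing `v` and any given involution `w` commuting with `v`. -/
theorem aut_torus (h : IsWalterType K) (hna : ¬ IsMulCommutative K) {v : K} (hv : orderOf v = 2)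
    {D : Subgroup (MulAut K)} (hD : Odd (Nat.card D))
    (hn : ∀ c ∈ centralizer ({v} : Set K), MulAut.conj c ∈ normalizer (D : Set (MulAut K)))
    {d : MulAut K} (hd : d ∈ D) {w : K} (hw : w * w = 1) (hvw : w * v = v * w) :
    ∃ r ∈ centralizer ({v} : Set K), MulAut.conj r ∈ D ∧
      ((MulAut.conj r)⁻¹ * d) v = v ∧ ((MulAut.conj r)⁻¹ * d) w = w := by
  haveI : Finite (MulAut K) := Finite.of_injective _ MulEquiv.toEquiv_injective
  obtain ⟨h1, -, h3⟩ := inner_part h hna hv hD hn
  obtain ⟨hy, hyD⟩ := aut_commutator h hna hv hD hn hd (mem_centralizer_singleton_iff.2 hvw)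
  set y := d w * w⁻¹ with hy'
  have hwi : w⁻¹ = w := inv_eq_of_mul_eq_one_right hw
  have hinv : w * y * w⁻¹ = y⁻¹ := by
    have h2 : d w * d w = 1 := by rw [← map_mul, hw, map_one]
    rw [hy', mul_inv_rev, inv_inv, inv_eq_of_mul_eq_one_right h2, hwi]
    calc w * (d w * w) * w = w * d w * (w * w) := by group
      _ = w * d w := by rw [hw, mul_one]
  obtain ⟨m, hm⟩ := h1.of_dvd_nat (Subgroup.orderOf_dvd_natCard _ (mem_comap.2 hyD))
  set r := y ^ (m + 1) with hr
  have hrr : r * r = y := by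
    rw [hr, ← pow_add, show m + 1 + (m + 1) = (2 * m + 1) + 1 by omega, pow_succ, ← hm, pow_orderOf_eq_one,
      one_mul]
  have hrC : r ∈ centralizer ({v} : Set K) := pow_mem hy _
  refine ⟨r, hrC, by rw [hr, map_pow]; exact pow_mem hyD _, ?_, ?_⟩
  · rw [MulAut.mul_apply, aut_fixes h hna hv hD hn hd, MulAut.inv_apply, MulAut.conj_symm_apply,
      mul_assoc, ← mem_centralizer_singleton_iff.1 hrC, inv_mul_cancel_left]
  · have hrw : w * r * w⁻¹ = r⁻¹ := by rw [hr, ← conj_pow, hinv, inv_pow]
    rw [MulAut.mul_apply, MulAut.inv_apply, MulAut.conj_symm_apply]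
    calc r⁻¹ * d w * r = r⁻¹ * (y * w) * r := by rw [hy', inv_mul_cancel_right]
      _ = r⁻¹ * (r * r) * (w * r * w⁻¹) * w := by rw [hrr]; group
      _ = w := by rw [hrw]; group

/-- In odd type an odd automorphism fixing a Sylow 2-subgroup pointwise fixes its normaliser pointwise. -/
theorem fixes_normalizer_of_sylow (h : IsOddType K) (P : Sylow 2 K) (α : MulAut K)
    (hα : Odd (orderOf α)) (hfix : ∀ p ∈ (P : Subgroup K), α p = p) {n : K}
    (hn : n ∈ normalizer ((P : Subgroup K) : Set K)) : α n = n := by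
  haveI : Fact (Nat.Prime 2) := ⟨Nat.prime_two⟩
  set c := n⁻¹ * α n with hc
  have hcP : ∀ p ∈ (P : Subgroup K), c * p = p * c := fun p hp => by
    have h1 := hfix _ ((mem_normalizer_iff.1 hn p).1 hp)
    rw [map_mul, map_mul, map_inv, hfix p hp, mul_inv_eq_iff_eq_mul] at h1
    rw [hc, mul_assoc, h1]
    group
  have h4 := card_sylow h.pslData P
  obtain ⟨v, hv, hv1⟩ := (bot_or_exists_ne_one (P : Subgroup K)).resolve_left fun e => by
    rw [e, Subgroup.card_bot] at h4; omega
  obtain ⟨w, hw, hw1, hwv⟩ : ∃ w ∈ (P : Subgroup K), w ≠ 1 ∧ w ≠ v := by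
    by_contra hcon
    push Not at hcon
    have hle : (P : Subgroup K) ≤ zpowers v := fun p hp => by
      by_cases hp1 : p = 1
      · rw [hp1]; exact one_mem _
      · rw [hcon p hp hp1]; exact mem_zpowers v
    have := card_le_of_le hle
    rw [h4, Nat.card_zpowers, orderOf_of_mem h.pslData P hv hv1] at this
    omega
  have hc2 : c * c = 1 := CfsgLib.AbelianPSL.sq_of_commute_four h.pslData (orderOf_of_mem h.pslData P hv hv1)
    (orderOf_of_mem h.pslData P hw hw1) hwv.symm (hcP v hv) (hcP w hw)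
  have hcmem : c ∈ (P : Subgroup K) := by
    by_contra hcn
    have hp : IsPGroup 2 (zpowers c) := fun x => by
      obtain ⟨k, hk⟩ := mem_zpowers_iff.1 x.2
      refine ⟨1, Subtype.ext ?_⟩
      rw [SubgroupClass.coe_pow, ← hk, pow_one, ← zpow_natCast, ← zpow_mul, mul_comm, zpow_mul, zpow_natCast,
        pow_two, hc2, one_zpow]
      rfl
    have hcN : c ∈ normalizer ((P : Subgroup K) : Set K) := mem_normalizer_iff.2 fun p => by
      refine ⟨fun hp => by rw [hcP p hp, mul_inv_cancel_right]; exact hp, fun hp => ?_⟩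
      have h1 : c * p * c⁻¹ = p := by
        have := hcP _ hp
        exact (mul_left_cancel (this.trans (inv_mul_cancel_right (c * p) c))).symm ▸ rfl
      rwa [h1] at hp
    exact hcn ((hp.inf_normalizer_sylow P).le ⟨mem_zpowers c, hcN⟩).2
  have hcf : α c = c := hfix c hcmem
  have hpow : ∀ j : ℕ, (α ^ j) n = n * c ^ j := by
    intro j
    induction j with
    | zero => simp
    | succ j ih =>
      rw [pow_succ', MulAut.mul_apply, ih, map_mul, map_pow, hcf, show α n = n * c by rw [hc]; group,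
        mul_assoc, ← pow_succ']
  have h1 := hpow (orderOf α)
  rw [pow_orderOf_eq_one, MulAut.one_apply, left_eq_mul] at h1
  have hc1 : c = 1 := by
    refine orderOf_eq_one_iff.1 (Nat.dvd_one.1 ?_)
    rw [← (Nat.coprime_two_left.2 hα).gcd_eq_one]
    exact Nat.dvd_gcd (orderOf_dvd_of_pow_eq_one (by rw [pow_two]; exact hc2)) (orderOf_dvd_of_pow_eq_one h1)
  rw [hc, inv_mul_eq_one] at hc1
  exact hc1.symm

variable {X : Type u} [Group X] [Finite X]

/-- `S ∩ K` is a Sylow 2-subgroup of a component `K`. -/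
theorem exists_sylow_component (S : Sylow 2 X) {C : Subgroup X} (hC : Cfsg.IsComponent C) :
    ∃ P : Sylow 2 ↥C, (P : Subgroup ↥C) = (S : Subgroup X).subgroupOf C := by
  haveI : Fact (Nat.Prime 2) := ⟨Nat.prime_two⟩
  obtain ⟨P, hP⟩ := (show IsPGroup 2 ((S : Subgroup X).subgroupOf C) from
    S.2.comap_of_injective C.subtype C.subtype_injective).exists_le_sylow
  have hi : ¬ 2 ∣ ((S : Subgroup X).subgroupOf C).index := by
    have := CfsgLib.LocalEvenB.not_dvd_relIndex_inf_of_subnormal S hC.1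
    rwa [inf_relIndex_right] at this
  refine ⟨P, (hP.antisymm (Subgroup.relIndex_eq_one.1 ?_)).symm⟩
  obtain ⟨k, hk⟩ := IsPGroup.iff_card.1 P.2
  have h1 := Subgroup.relIndex_dvd_card ((S : Subgroup X).subgroupOf C) (P : Subgroup ↥C)
  rw [hk] at h1
  obtain ⟨j, -, hj⟩ := (Nat.dvd_prime_pow Nat.prime_two).1 h1
  rcases j with _ | j
  · simpa using hj
  · exact absurd ((show 2 ∣ ((S : Subgroup X).subgroupOf C).relIndex (P : Subgroup ↥C) from
      ⟨2 ^ j, by rw [hj, pow_succ']⟩).trans (Subgroup.relIndex_dvd_index_of_le hP)) hi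

/-- Two involutions of `S ∩ K` are conjugate by an element of `K` normalising `S` and centralising every
element of `S` that centralises `K`. -/
theorem exists_normalizer_component (hA : AbSylow X) (hO : Cfsg.oddCore X = ⊥) (S : Sylow 2 X)
    {C : Subgroup X} (hC : Cfsg.IsComponent C) (hW : IsWalterType ↥C) {v w : X}
    (hv : v ∈ (S : Subgroup X) ⊓ C) (hw : w ∈ (S : Subgroup X) ⊓ C) (hv2 : orderOf v = 2)
    (hw2 : orderOf w = 2) :
    ∃ n ∈ C, n ∈ normalizer ((S : Subgroup X) : Set X) ∧ n * v * n⁻¹ = w ∧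
      ∀ s ∈ (S : Subgroup X), (∀ k ∈ C, s * k = k * s) → n * s * n⁻¹ = s := by
  haveI : Fact (Nat.Prime 2) := ⟨Nat.prime_two⟩
  obtain ⟨P, hP⟩ := exists_sylow_component S hC
  obtain ⟨g, hg⟩ := isConj_iff.1 (hW.isConj (v := ⟨v, hv.2⟩) (w := ⟨w, hw.2⟩)
    (by rw [Subgroup.orderOf_mk]; exact hv2) (by rw [Subgroup.orderOf_mk]; exact hw2))
  obtain ⟨n, hn, hne⟩ := Transfer.exists_normalizer_conj_of_isMulCommutative P
    (CfsgLib.AbelianSolvCent.abSylow_subgroup hA C P) (X := {(⟨v, hv.2⟩ : C)})
    (Set.singleton_subset_iff.mpr (show (⟨v, hv.2⟩ : C) ∈ (P : Subgroup C) from hP ▸ hv.1)) (g := g⁻¹)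
    (by rw [Set.image_singleton, inv_inv, hg]
        exact Set.singleton_subset_iff.mpr (show (⟨w, hw.2⟩ : C) ∈ (P : Subgroup C) from hP ▸ hw.1))
  have hne' := hne _ rfl
  rw [inv_inv, hg] at hne'
  set m : C := n⁻¹
  have hm : m ∈ normalizer ((P : Subgroup C) : Set C) := inv_mem hn
  refine ⟨m, m.2, mem_normalizer_iff_map_conj_eq.2 (eq_of_le_of_card_ge ?_
    (card_map_of_injective (MulAut.conj (m : X)).injective).ge), ?_, fun s _ hsk => ?_⟩
  · rintro _ ⟨s, hs, rfl⟩
    show (m : X) * s * (m : X)⁻¹ ∈ (S : Subgroup X)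
    obtain ⟨x, hx, hxk⟩ := exists_projection hA hO S hC hs
    have hcomm : ∀ k ∈ C, (x⁻¹ * s) * k = k * (x⁻¹ * s) := fun k hk => by
      calc x⁻¹ * s * k = x⁻¹ * (s * k * s⁻¹) * s := by group
        _ = k * (x⁻¹ * s) := by rw [hxk k hk]; group
    rw [show (m : X) * s * (m : X)⁻¹ = ((m : X) * x * (m : X)⁻¹) * ((m : X) * (x⁻¹ * s) * (m : X)⁻¹) by group,
      ← hcomm _ m.2, mul_inv_cancel_right]
    refine mul_mem ?_ (mul_mem (inv_mem hx.1) hs)
    have h1 : m * ⟨x, hx.2⟩ * m⁻¹ ∈ (P : Subgroup C) :=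
      (mem_normalizer_iff.1 hm _).1 (show (⟨x, hx.2⟩ : C) ∈ (P : Subgroup C) from hP ▸ hx.1)
    rw [hP] at h1
    exact h1
  · show ((m : C) : X) * v * ((m : C) : X)⁻¹ = w
    have := congrArg Subtype.val hne'
    simpa [m] using this
  · rw [← hsk _ m.2, mul_inv_cancel_right]

end CfsgLib.Walter.Sections
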