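import Cfsg.Agent.Lib.Recog.Walter.Sections.AutInner
import Cfsg.Agent.Lib.Bender.Gen.Wiring
import Cfsg.Agent.Lib.DegreeThreeP.Bender
import Cfsg.Agent.Lib.GW.DGroup.Even
import Cfsg.Agent.S0222

/-!
Owner: helper8. Walter, sections: subgroups containing the centralisers of a Sylow 2-subgroup's involutions.

* `stronglyEmbedded_of_contains`: with abelian `P`, such a subgroup containing `N(P)` is `⊤` or strongly embedded.
* `iso_four_of_embedded`: a simple group of 2-part four with a strongly embedded subgroup is `PSL(2, 4)`.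
* `translation_of_embedded`: there, an automorphism fixing a Sylow 2-subgroup is conjugation by one of its elements.
-/

set_option autoImplicit false
set_option linter.style.haveILetI false
set_option linter.unusedSectionVars false

namespace CfsgLib.Walter.Sections

open Subgroup
open CfsgLib.Signalizer (orderOf_conj)

universe u

variable {K : Type u} [Group K] [Finite K]

/-- A proper subgroup containing `N(P)` and all centralisers of involutions of the abelian Sylow subgroup `P`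
is strongly embedded. -/
theorem stronglyEmbedded_of_contains (P : Sylow 2 K) (hP : IsMulCommutative ↥(P : Subgroup K))
    {H : Subgroup K} (hne : H ≠ ⊤) (h2 : 2 ∣ Nat.card K)
    (hN : normalizer ((P : Subgroup K) : Set K) ≤ H)
    (hC : ∀ u ∈ (P : Subgroup K), orderOf u = 2 → centralizer ({u} : Set K) ≤ H) :
    Cfsg.IsStronglyEmbedded H := by
  haveI : Fact (Nat.Prime 2) := ⟨Nat.prime_two⟩
  have hPH : (P : Subgroup K) ≤ H := le_normalizer.trans hN
  have heven : Even (Nat.card H) :=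
    even_iff_two_dvd.2 ((P.dvd_card_of_dvd_card h2).trans (card_dvd_of_le hPH))
  -- involutions of `H` are conjugate into `P` inside `H`
  have key : ∀ x ∈ H, orderOf x = 2 → ∃ m ∈ H, m * x * m⁻¹ ∈ (P : Subgroup K) := by
    intro x hx hx2
    obtain ⟨Q, hQ⟩ := (CfsgLib.Signalizer.isPGroup_zpowers_involution
      (show orderOf (⟨x, hx⟩ : H) = 2 by rw [Subgroup.orderOf_mk]; exact hx2)).exists_le_sylow
    obtain ⟨m, hm⟩ := MulAction.exists_smul_eq H Q (P.subtype hPH)
    refine ⟨m, m.2, ?_⟩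
    have h1 : m * ⟨x, hx⟩ * m⁻¹ ∈ ((P.subtype hPH : Sylow 2 H) : Subgroup H) := by
      rw [← hm, Sylow.coe_subgroup_smul]
      exact ⟨⟨x, hx⟩, hQ (mem_zpowers _), rfl⟩
    exact h1
  rw [CfsgLib.Signalizer.stronglyEmbedded_iff_conj]
  refine ⟨hne, heven, fun t htH ht g hg => ?_⟩
  obtain ⟨m, hm, hmP⟩ := key t htH ht
  obtain ⟨m', hm', hmP'⟩ := key _ hg ((orderOf_conj g t).trans ht)
  set t' := m * t * m⁻¹ with ht'
  set d := m' * g * m⁻¹ with hd
  have hdt : d * t' * d⁻¹ ∈ (P : Subgroup K) := by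
    rw [hd, ht', show m' * g * m⁻¹ * (m * t * m⁻¹) * (m' * g * m⁻¹)⁻¹ = m' * (g * t * g⁻¹) * m'⁻¹ by group]
    exact hmP'
  obtain ⟨n, hn, hne'⟩ := Transfer.exists_normalizer_conj_of_isMulCommutative P hP (X := {t'})
    (Set.singleton_subset_iff.mpr hmP) (g := d⁻¹)
    (by rw [Set.image_singleton, inv_inv]; exact Set.singleton_subset_iff.mpr hdt)
  have h := hne' t' rfl
  rw [inv_inv] at h
  have hc : n * d ∈ centralizer ({t'} : Set K) := by
    rw [mem_centralizer_singleton_iff]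
    calc n * d * t' = n * (d * t' * d⁻¹) * d := by group
      _ = n * (n⁻¹ * t' * n) * d := by rw [h]
      _ = t' * (n * d) := by group
  have hdH : d ∈ H := by
    have := mul_mem (inv_mem (hN hn)) (hC t' hmP ((orderOf_conj m t).trans ht) hc)
    rwa [inv_mul_cancel_left] at this
  have := mul_mem (mul_mem (inv_mem hm') hdH) hm
  rwa [hd, show m'⁻¹ * (m' * g * m⁻¹) * m = g by group] at this

/-- A simple group with a strongly embedded subgroup and 2-part four is `PSL(2, 4)`. -/
theorem iso_four_of_embedded [IsSimpleGroup K] (hna : ¬ IsMulCommutative K) (h8 : ¬ 8 ∣ Nat.card K)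
    {H : Subgroup K} (hH : Cfsg.IsStronglyEmbedded H) :
    ∃ (F : Type) (_ : Field F) (_ : Fintype F), CharP F 2 ∧ Fintype.card F = 4 ∧
      Nonempty (K ≃* Matrix.ProjectiveSpecialLinearGroup (Fin 2) F) := by
  have hab : ∃ a b : K, a * b ≠ b * a := by
    by_contra h
    push Not at h
    exact hna ⟨⟨h⟩⟩
  rcases Cfsg.Agent.S0222.result hab H hH with
    ⟨F, iF, iT, hch, h4, ⟨e⟩⟩ | ⟨-, m, hm, hcard⟩ | ⟨F, iF, iT, q, hF, hq, h4, ⟨e⟩⟩
  · haveI := hch
    haveI : Fact (Nat.Prime 2) := ⟨Nat.prime_two⟩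
    obtain ⟨n, -, hn⟩ := FiniteField.card F 2
    refine ⟨F, iF, iT, hch, ?_, ⟨e⟩⟩
    by_contra hne
    have h3 : 3 ≤ (n : ℕ) := by
      by_contra h
      have hn1 : 1 ≤ (n : ℕ) := n.2
      rw [hn] at h4 hne
      interval_cases hv : (n : ℕ) <;> simp_all
    refine h8 ?_
    rw [Nat.card_congr e.toEquiv]
    have hc := CfsgLib.Classical.Two.card_PSL_two (F := F)
    rw [show Nat.gcd 2 (Fintype.card F - 1) = 1 from Nat.Coprime.gcd_eq_one (Nat.coprime_two_left.2 (by
      have : Even (Fintype.card F) := hn ▸ (Nat.even_pow.2 ⟨even_two, by omega⟩)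
      rcases this with ⟨j, hj⟩
      exact ⟨j - 1, by omega⟩)), one_mul] at hc
    rw [hc]
    exact Dvd.dvd.mul_right (hn ▸ (pow_dvd_pow 2 h3)) _
  · refine absurd ?_ h8
    rw [hcard]
    refine Dvd.dvd.mul_right (Dvd.dvd.mul_right ?_ _) _
    rw [← pow_mul]
    exact pow_dvd_pow 2 (n := (2 * m + 1) * 2) (by omega : 3 ≤ (2 * m + 1) * 2)
  · refine absurd ?_ h8
    rw [Nat.card_congr e.toEquiv]
    obtain ⟨z, hz, hcard⟩ := CfsgLib.DegreeThreeP.card_psu_three_mul (F := F) hF
    have hzodd : Nat.Coprime 8 z := by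
      refine (Nat.Coprime.pow_left 3 (Nat.coprime_two_left.2 ?_) : Nat.Coprime (2 ^ 3) z)
      exact Odd.of_dvd_nat (hq.add_one) hz
    refine hzodd.dvd_of_dvd_mul_right ?_
    rw [hcard]
    exact Dvd.dvd.mul_right ((pow_dvd_pow_of_dvd (even_iff_two_dvd.1 hq) 3 : 2 ^ 3 ∣ q ^ 3)) _

/-- In `PSL(2, q)`, `q` even, an automorphism fixing a Sylow 2-subgroup pointwise is conjugation by one of its
elements. -/
theorem translation_two {F : Type} [Field F] [Fintype F] [CharP F 2] (h4 : 4 ≤ Fintype.card F)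
    (e : K ≃* Matrix.ProjectiveSpecialLinearGroup (Fin 2) F) (T : Sylow 2 K) (β : MulAut K)
    (hβ : ∀ t ∈ (T : Subgroup K), β t = t) : ∃ u ∈ (T : Subgroup K), β = MulAut.conj u := by
  obtain ⟨f⟩ := CfsgLib.Recog.AffineTwo.psl_equiv_sl F
  haveI := CfsgLib.GW.DGroup.isSimpleGroup_of_equiv h4 (e.trans f)
  exact CfsgLib.GW.DGroup.exists_translation (CfsgLib.GW.DGroup.elemCent h4 (e.trans f) T) β hβ

/-- An automorphism of odd order fixing pointwise a subgroup inside a strongly embedded situation of 2-part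
four is trivial. -/
theorem eq_one_of_embedded [IsSimpleGroup K] (hna : ¬ IsMulCommutative K) (h8 : ¬ 8 ∣ Nat.card K)
    {H : Subgroup K} (hH : Cfsg.IsStronglyEmbedded H) (P : Sylow 2 K) (α : MulAut K) (hα : Odd (orderOf α))
    (hfix : ∀ x ∈ (P : Subgroup K), α x = x) : α = 1 := by
  obtain ⟨F, iF, iT, hch, h4, ⟨e⟩⟩ := iso_four_of_embedded hna h8 hH
  haveI := hch
  obtain ⟨u, hu, rfl⟩ := translation_two (by omega) e P α hfix
  obtain ⟨k, hk⟩ := IsPGroup.iff_orderOf.1 P.2 ⟨u, hu⟩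
  rw [Subgroup.orderOf_mk] at hk
  have hd : orderOf (MulAut.conj u : MulAut K) ∣ 2 ^ k := hk ▸ orderOf_map_dvd MulAut.conj u
  exact orderOf_eq_one_iff.1 (((Nat.coprime_two_right.2 hα).pow_right k).eq_one_of_dvd hd)

end CfsgLib.Walter.Sections
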